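import Mathlib

/-!
Three vectors of norm four with inner products two, one of them involving the trivial character:
the congruence and the class equation are contradictory.
-/

set_option autoImplicit false

namespace Cfsg.Agent.EightSylow

variable {ι : Type*} [Fintype ι] [DecidableEq ι]

/-- A vector of norm four orthogonal to a positive vector has entries of absolute value at most one. -/
theorem small_of_norm_four (f : ι → ℤ) (deg : ι → ℕ) (hpos : ∀ χ, 0 < deg χ) (h4 : ∑ χ, f χ * f χ = 4)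
    (h0 : ∑ χ, f χ * (deg χ : ℤ) = 0) (χ : ι) : f χ * f χ ≤ 1 := by
  by_contra hc
  have h1 : 4 ≤ f χ * f χ := by
    rcases (show 2 ≤ f χ ∨ f χ ≤ -2 by
      by_contra h
      push Not at h
      have : f χ = -1 ∨ f χ = 0 ∨ f χ = 1 := by omega
      rcases this with e | e | e <;> rw [e] at hc <;> norm_num at hc) with h | h <;> nlinarith
  have h2 : ∑ ψ ∈ Finset.univ.erase χ, f ψ * f ψ = 0 := by
    have := Finset.add_sum_erase Finset.univ (fun ψ => f ψ * f ψ) (Finset.mem_univ χ)
    have h3 : 0 ≤ ∑ ψ ∈ Finset.univ.erase χ, f ψ * f ψ := Finset.sum_nonneg fun ψ _ => mul_self_nonneg _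
    omega
  have h5 : ∀ ψ, ψ ≠ χ → f ψ = 0 := fun ψ hψ =>
    mul_self_eq_zero.1 ((Finset.sum_eq_zero_iff_of_nonneg fun ψ _ => mul_self_nonneg (f ψ)).1 h2 ψ
      (Finset.mem_erase.2 ⟨hψ, Finset.mem_univ _⟩))
  rw [Finset.sum_eq_single χ (fun ψ _ hψ => by rw [h5 ψ hψ, zero_mul]) (fun h => absurd (Finset.mem_univ _) h),
    mul_eq_zero] at h0
  rcases h0 with e | e
  · rw [e] at h1; norm_num at h1
  · exact (hpos χ).ne' (by exact_mod_cast e)

theorem false_of_vectors (V : Fin 3 → ι → ℤ) (z : ι) (deg : ι → ℕ)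
    (hdot : ∀ i j, ∑ χ, V i χ * V j χ = if i = j then 4 else 2)
    (hz0 : V 0 z = 1) (hz1 : V 1 z = 0) (hz2 : V 2 z = 0) (hdz : deg z = 1)
    (hdeg : ∀ χ, χ ≠ z → 1 < deg χ)
    (hzero : ∀ i, ∑ χ, V i χ * (deg χ : ℤ) = 0)
    (hcong : ∀ χ, V 0 χ ≠ 0 → ∃ n : ℕ, (deg χ : ℤ) + 7 * (V 0 χ + V 1 χ + V 2 χ) = 8 * n)
    (hne : ∀ χ, χ ≠ z → V 0 χ ≠ 0 → (deg χ : ℤ) ≠ V 0 χ + V 1 χ + V 2 χ)
    (heq : ∑ χ, (V 0 χ : ℚ) * ((V 0 χ + V 1 χ + V 2 χ : ℤ) : ℚ) ^ 2 / deg χ =
      ∑ χ, (V 1 χ : ℚ) * ((V 0 χ + V 1 χ + V 2 χ : ℤ) : ℚ) ^ 2 / deg χ) : False := by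
  have hpos : ∀ χ, 0 < deg χ := fun χ => by
    rcases eq_or_ne χ z with rfl | h
    · omega
    · exact lt_trans zero_lt_one (hdeg χ h)
  -- entries
  have hV : ∀ i χ, V i χ * V i χ ≤ 1 := fun i =>
    small_of_norm_four (V i) deg hpos (by rw [hdot, if_pos rfl]) (hzero i)
  have hagree : ∀ i j χ, i ≠ j → V i χ ≠ 0 → V j χ ≠ 0 → V i χ = V j χ := by
    intro i j χ hij hi hj
    have h := small_of_norm_four (fun ψ => V i ψ - V j ψ) deg hpos
      (by
        have e : ∀ ψ, (V i ψ - V j ψ) * (V i ψ - V j ψ) =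
            V i ψ * V i ψ + V j ψ * V j ψ - 2 * (V i ψ * V j ψ) := fun ψ => by ring
        simp only [e, Finset.sum_sub_distrib, Finset.sum_add_distrib, ← Finset.mul_sum, hdot, if_pos rfl,
          if_neg hij]
        norm_num)
      (by simp only [sub_mul, Finset.sum_sub_distrib, hzero, sub_zero]) χ
    have a := hV i χ
    have b := hV j χ
    have a' : V i χ = 1 ∨ V i χ = -1 := by
      have : -1 ≤ V i χ ∧ V i χ ≤ 1 := ⟨by nlinarith, by nlinarith⟩
      omega
    have b' : V j χ = 1 ∨ V j χ = -1 := by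
      have : -1 ≤ V j χ ∧ V j χ ≤ 1 := ⟨by nlinarith, by nlinarith⟩
      omega
    rcases a' with e | e <;> rcases b' with e' | e' <;> simp only [e, e'] at h ⊢ <;> norm_num at h
  have hsq : ∀ i χ, V i χ ≠ 0 → V i χ * V i χ = 1 := fun i χ h => by
    have := hV i χ
    have : 0 < V i χ * V i χ := mul_self_pos.2 h
    omega
  let P : Fin 3 → Finset ι := fun i => Finset.univ.filter fun χ => V i χ ≠ 0
  have hP : ∀ i χ, χ ∈ P i ↔ V i χ ≠ 0 := fun i χ => by simp [P]
  have hcard : ∀ i, (P i).card = 4 := fun i => by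
    have h := hdot i i
    rw [if_pos rfl, ← Finset.sum_filter_ne_zero (s := Finset.univ) (f := fun χ => V i χ * V i χ)] at h
    have e : (Finset.univ.filter fun χ => V i χ * V i χ ≠ 0) = P i := by
      ext χ; simp [P]
    rw [e, Finset.sum_congr rfl fun χ hχ => hsq i χ ((hP i χ).1 hχ), Finset.sum_const, nsmul_eq_mul,
      mul_one] at h
    exact_mod_cast h
  have hinter : ∀ i j, i ≠ j → (P i ∩ P j).card = 2 := fun i j hij => by
    have h := hdot i j
    rw [if_neg hij, ← Finset.sum_subset (Finset.subset_univ (P i ∩ P j)) (fun χ _ hχ => by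
      rw [Finset.mem_inter, hP, hP, not_and_or, not_not, not_not] at hχ
      rcases hχ with e | e <;> rw [e] <;> ring),
      Finset.sum_congr rfl (g := fun _ => (1 : ℤ)) (fun χ hχ => by
        rw [Finset.mem_inter, hP, hP] at hχ
        rw [← hagree i j χ hij hχ.1 hχ.2, hsq i χ hχ.1]),
      Finset.sum_const, nsmul_eq_mul, mul_one] at h
    exact_mod_cast h
  -- the two differences
  have hE : (P 0 \ P 1).card = 2 := by
    have := Finset.card_sdiff_add_card_inter (P 0) (P 1)
    rw [hcard, hinter 0 1 (by decide)] at this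
    omega
  have hF : (P 1 \ P 0).card = 2 := by
    have := Finset.card_sdiff_add_card_inter (P 1) (P 0)
    rw [hcard, hinter 1 0 (by decide)] at this
    omega
  have hzE : z ∈ P 0 \ P 1 := by simp [P, hz0, hz1]
  obtain ⟨b, hbz, hEb⟩ : ∃ b, b ≠ z ∧ P 0 \ P 1 = {z, b} := by
    obtain ⟨x, y, hxy, e⟩ := Finset.card_eq_two.1 hE
    rw [e] at hzE
    rcases Finset.mem_insert.1 hzE with rfl | h
    · exact ⟨y, hxy.symm, e⟩
    · rw [Finset.mem_singleton] at h
      subst h
      exact ⟨x, hxy, by rw [e, Finset.pair_comm]⟩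
  have hC : ((P 1 \ P 0) ∩ P 2).card = if V 2 b = 0 then 0 else 1 := by
    have h1 : (P 2 ∩ P 0).card = (P 0 ∩ P 1 ∩ P 2).card + ((P 0 \ P 1) ∩ P 2).card := by
      rw [← Finset.card_union_of_disjoint (Finset.disjoint_left.2 fun x hx hx' => by
        simp only [Finset.mem_inter, Finset.mem_sdiff] at hx hx'
        exact hx'.1.2 hx.1.2)]
      congr 1
      ext x
      simp only [Finset.mem_inter, Finset.mem_union, Finset.mem_sdiff]
      tauto
    have h2 : (P 2 ∩ P 1).card = (P 0 ∩ P 1 ∩ P 2).card + ((P 1 \ P 0) ∩ P 2).card := by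
      rw [← Finset.card_union_of_disjoint (Finset.disjoint_left.2 fun x hx hx' => by
        simp only [Finset.mem_inter, Finset.mem_sdiff] at hx hx'
        exact hx'.1.2 hx.1.1)]
      congr 1
      ext x
      simp only [Finset.mem_inter, Finset.mem_union, Finset.mem_sdiff]
      tauto
    rw [hinter 2 0 (by decide)] at h1
    rw [hinter 2 1 (by decide)] at h2
    have h3 : ((P 0 \ P 1) ∩ P 2).card = if V 2 b = 0 then 0 else 1 := by
      rw [hEb]
      split_ifs with hb
      · rw [Finset.card_eq_zero]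
        ext x
        simp only [Finset.mem_inter, Finset.mem_insert, Finset.mem_singleton, hP, Finset.notMem_empty,
          iff_false, not_and, not_not]
        rintro (rfl | rfl)
        · exact hz2
        · exact hb
      · rw [Finset.card_eq_one]
        refine ⟨b, ?_⟩
        ext x
        simp only [Finset.mem_inter, Finset.mem_insert, Finset.mem_singleton, hP]
        refine ⟨fun ⟨h, h'⟩ => h.resolve_left fun e => h' (e ▸ hz2), fun e => ⟨Or.inr e, e ▸ hb⟩⟩
    omega
  -- a label for the second difference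
  obtain ⟨e, o, heo, hFeo, hV2o, hV2e⟩ : ∃ e o, e ≠ o ∧ P 1 \ P 0 = {e, o} ∧ V 2 o = 0 ∧
      (V 2 e = 0 ↔ V 2 b = 0) := by
    obtain ⟨x, y, hxy, hxye⟩ := Finset.card_eq_two.1 hF
    rw [hxye] at hC
    by_cases hx : V 2 x = 0
    · by_cases hy : V 2 y = 0
      · refine ⟨x, y, hxy, hxye, hy, iff_of_true hx ?_⟩
        by_contra hb
        rw [if_neg hb, Finset.card_eq_one] at hC
        obtain ⟨u, hu⟩ := hC
        have := (Finset.ext_iff.1 hu u).2 (Finset.mem_singleton_self u)
        simp only [Finset.mem_inter, Finset.mem_insert, Finset.mem_singleton, hP] at this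
        rcases this with ⟨rfl | rfl, h⟩
        · exact h hx
        · exact h hy
      · refine ⟨y, x, hxy.symm, by rw [hxye, Finset.pair_comm], hx, iff_of_false hy fun hb => ?_⟩
        rw [if_pos hb, Finset.card_eq_zero] at hC
        exact Finset.notMem_empty y (hC ▸ Finset.mem_inter.2 ⟨by simp, (hP 2 y).2 hy⟩)
    · have hy : V 2 y = 0 := by
        by_contra hy
        have h2 : ({x, y} : Finset ι) ∩ P 2 = {x, y} := by
          rw [Finset.inter_eq_left]
          intro u hu
          simp only [Finset.mem_insert, Finset.mem_singleton] at hu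
          rcases hu with rfl | rfl
          · exact (hP 2 _).2 hx
          · exact (hP 2 _).2 hy
        rw [h2, Finset.card_pair hxy] at hC
        split_ifs at hC
        omega
      refine ⟨x, y, hxy, hxye, hy, iff_of_false hx fun hb => ?_⟩
      rw [if_pos hb, Finset.card_eq_zero] at hC
      exact Finset.notMem_empty x (hC ▸ Finset.mem_inter.2 ⟨by simp, (hP 2 x).2 hx⟩)
  have hb0 : V 0 b ≠ 0 ∧ V 1 b = 0 := by
    have : b ∈ P 0 \ P 1 := by rw [hEb]; simp
    simpa [P] using this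
  have he1 : V 1 e ≠ 0 ∧ V 0 e = 0 := by
    have : e ∈ P 1 \ P 0 := by rw [hFeo]; simp
    simpa [P] using this
  have ho1 : V 1 o ≠ 0 ∧ V 0 o = 0 := by
    have : o ∈ P 1 \ P 0 := by rw [hFeo]; simp
    simpa [P] using this
  have split : ∀ g : ι → ℚ, ∑ χ, (V 0 χ : ℚ) * g χ = ∑ χ, (V 1 χ : ℚ) * g χ →
      g z + (V 0 b : ℚ) * g b = (V 1 e : ℚ) * g e + (V 1 o : ℚ) * g o := by
    intro g hg
    have h : ∑ χ, ((V 0 χ : ℚ) - V 1 χ) * g χ = 0 := by
      simp only [sub_mul, Finset.sum_sub_distrib, hg, sub_self]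
    rw [← Finset.sum_subset (Finset.subset_univ ((P 0 \ P 1) ∪ (P 1 \ P 0))) (fun χ _ hχ => by
      simp only [Finset.mem_union, Finset.mem_sdiff, hP, not_or, not_and, not_not] at hχ
      by_cases h0 : V 0 χ = 0
      · have h1 : V 1 χ = 0 := by
          by_contra h1
          exact (hχ.2 h1) h0
        simp [h0, h1]
      · rw [← hagree 0 1 χ (by decide) h0 (hχ.1 h0)]
        simp),
      Finset.sum_union disjoint_sdiff_sdiff, hEb, hFeo, Finset.sum_pair hbz.symm, Finset.sum_pair heo,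
      hz0, hz1, hb0.2, he1.2, ho1.2] at h
    push_cast at h
    linarith
  have h1 := split (fun χ => (deg χ : ℚ)) (by
    have h0 := congrArg (fun n : ℤ => (n : ℚ)) (hzero 0)
    have h1 := congrArg (fun n : ℤ => (n : ℚ)) (hzero 1)
    push_cast at h0 h1
    rw [h0, h1])
  have h2 := split (fun χ => ((V 0 χ + V 1 χ + V 2 χ : ℤ) : ℚ) ^ 2 / deg χ)
    (by simp only [← mul_div_assoc]; exact heq)
  simp only [hz0, hz1, hz2, hdz, hb0.2, he1.2, ho1.2, hV2o, add_zero, zero_add, Nat.cast_one,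
    Int.cast_one, one_pow, div_one] at h1 h2
  -- signed degrees
  have term : ∀ (i : Fin 3) (χ : ι), V i χ ≠ 0 → ∀ k : ℤ,
      (V i χ : ℚ) * ((k * V i χ : ℤ) : ℚ) ^ 2 / deg χ = (k : ℚ) ^ 2 / ((V i χ * deg χ : ℤ) : ℚ) := by
    intro i χ h k
    have hs : (V i χ : ℚ) * V i χ = 1 := by exact_mod_cast hsq i χ h
    have hd : (deg χ : ℚ) ≠ 0 := by exact_mod_cast (hpos χ).ne'
    have hv : (V i χ : ℚ) ≠ 0 := by exact_mod_cast h
    push_cast
    rw [div_eq_div_iff hd (mul_ne_zero hv hd)]
    linear_combination (k : ℚ) ^ 2 * deg χ * (V i χ * V i χ + 1) * hs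
  set xb : ℤ := V 0 b * deg b with hxb
  set xe : ℤ := V 1 e * deg e with hxe
  set xo : ℤ := V 1 o * deg o with hxo
  have hez : e ≠ z := fun h => he1.1 (h ▸ hz1)
  have hoz : o ≠ z := fun h => ho1.1 (h ▸ hz1)
  have big : ∀ (i : Fin 3) (χ : ι), χ ≠ z → V i χ ≠ 0 → 2 ≤ V i χ * deg χ ∨ V i χ * (deg χ : ℤ) ≤ -2 := by
    intro i χ hχ h
    have := hdeg χ hχ
    have hs := hsq i χ h
    rcases (show V i χ = 1 ∨ V i χ = -1 from mul_self_eq_one_iff.1 hs) with e | e <;> rw [e] <;> omega
  have hb := big 0 b hbz hb0.1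
  have he := big 1 e hez he1.1
  have ho := big 1 o hoz ho1.1
  rw [← hxb] at hb
  rw [← hxe] at he
  rw [← hxo] at ho
  have q1 : (1 : ℚ) + xb = xe + xo := by
    rw [hxb, hxe, hxo]; push_cast; linarith
  have nb : (xb : ℚ) ≠ 0 := by exact_mod_cast (by omega : xb ≠ 0)
  have ne : (xe : ℚ) ≠ 0 := by exact_mod_cast (by omega : xe ≠ 0)
  have no : (xo : ℚ) ≠ 0 := by exact_mod_cast (by omega : xo ≠ 0)
  have to' := term 1 o ho1.1 1
  rw [one_mul, ← hxo] at to'
  push_cast at to'
  by_cases hV2b : V 2 b = 0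
  · have hV2e' : V 2 e = 0 := hV2e.2 hV2b
    simp only [hV2b, hV2e', add_zero] at h2
    have tb := term 0 b hb0.1 1
    have te := term 1 e he1.1 1
    rw [one_mul, ← hxb] at tb
    rw [one_mul, ← hxe] at te
    push_cast at tb te
    rw [← mul_div_assoc, tb, ← mul_div_assoc, te, ← mul_div_assoc, to'] at h2
    field_simp at h2
    have h3 : ((xe : ℚ) - 1) * (xo - 1) = 0 := by
      have : (1 + (xb : ℚ)) * (xe * xo - xb) = 0 := by linear_combination h2 - (xb : ℚ) * q1
      rcases mul_eq_zero.1 this with h | h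
      · exfalso
        have : xb = -1 := by exact_mod_cast (by linarith : (xb : ℚ) = -1)
        omega
      · linear_combination h + q1
    rcases mul_eq_zero.1 h3 with h | h
    · have : xe = 1 := by exact_mod_cast (by linarith : (xe : ℚ) = 1)
      omega
    · have : xo = 1 := by exact_mod_cast (by linarith : (xo : ℚ) = 1)
      omega
  · have hV2e' : V 2 e ≠ 0 := fun h => hV2b (hV2e.1 h)
    have eb : V 2 b = V 0 b := (hagree 0 2 b (by decide) hb0.1 hV2b).symm
    have ee : V 2 e = V 1 e := (hagree 1 2 e (by decide) he1.1 hV2e').symm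
    simp only [eb, ee, add_zero] at h2
    have tb := term 0 b hb0.1 2
    have te := term 1 e he1.1 2
    rw [two_mul, ← hxb] at tb
    rw [two_mul, ← hxe] at te
    push_cast at tb te h2
    rw [← mul_div_assoc, tb, ← mul_div_assoc, te, ← mul_div_assoc, to'] at h2
    field_simp at h2
    have h3 : ((xo : ℚ) - 1) * (xo * (xb + 4) - xb * (xb + 1)) = 0 := by
      have hxe' : (xe : ℚ) = 1 + xb - xo := by linarith
      rw [hxe'] at h2
      linear_combination -h2
    rcases mul_eq_zero.1 h3 with h | h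
    · have : xo = 1 := by exact_mod_cast (by linarith : (xo : ℚ) = 1)
      omega
    · have h4 : xo * (xb + 4) = xb * (xb + 1) := by exact_mod_cast (by linarith : (xo : ℚ) * (xb + 4) = xb * (xb + 1))
      have hdvd : xb + 4 ∣ 12 := ⟨xo - xb + 3, by linear_combination -h4⟩
      have hle := Int.le_of_dvd (by norm_num) hdvd
      have hle' := Int.le_of_dvd (by norm_num) ((neg_dvd).2 hdvd)
      obtain ⟨n, hn⟩ := hcong b hb0.1
      rw [hb0.2, eb] at hn
      have hbne := hne b hbz hb0.1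
      rw [hb0.2, eb] at hbne
      rcases mul_self_eq_one_iff.1 (hsq 0 b hb0.1) with es | es
      · rw [es] at hn hbne hxb
        have : xb = 2 := by
          have : xb = 8 * (n : ℤ) - 14 := by omega
          rcases (show (n : ℤ) = 2 ∨ n < 2 ∨ 2 < n by omega) with h | h | h
          · omega
          · omega
          · omega
        omega
      · rw [es] at hn hbne hxb
        have : xb = -14 := by omega
        rw [this] at hdvd
        norm_num at hdvd

end Cfsg.Agent.EightSylow
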