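import Cfsg.Agent.Lib.Char.Generalized
import Cfsg.Agent.Lib.Char.Linear
import Cfsg.Agent.Lib.Char.PermChar
import Cfsg.Agent.Lib.PCore.Basic
import Cfsg.Agent.Lib.PCore.HallHigman
import Mathlib

/-!
The centralizer of an involution when its odd core has quotient `Z₂ × A₄`: three generalized characters supported
on the 2-section of the central involution.
-/

set_option autoImplicit false
set_option linter.style.haveILetI false

namespace Cfsg.Agent.EightSylow

open Subgroup
open scoped ComplexConjugate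

/-- Three permutations facts on four points. -/
theorem perm_four : (∀ σ : Equiv.Perm (Fin 4), σ * σ = 1 → (∀ i, σ i ≠ i) → Equiv.Perm.sign σ = 1) ∧
    ∀ σ : Equiv.Perm (Fin 4), Equiv.Perm.sign σ = 1 → σ * σ = 1 ∨
      (Finset.univ.filter fun i => σ i = i).card = 1 := by
  decide +kernel

universe u

variable {C : Type u} [Group C] [Finite C]

local notation "O" => pPrimeCore 2 C

/-- The data. -/
structure Loc (z : C) (S : Sylow 2 C) (x : C) : Prop where
  solv : Group.IsSolvable C
  comm : IsMulCommutative (S : Subgroup C)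
  sq : ∀ s ∈ (S : Subgroup C), s ^ 2 = 1
  card : Nat.card ↥(S : Subgroup C) = 8
  central : ∀ c : C, c * z = z * c
  z_mem : z ∈ (S : Subgroup C)
  z_ne : z ≠ 1
  x_odd : Odd (orderOf x)
  x_norm : x ∈ normalizer ((S : Subgroup C) : Set C)
  x_not : x ∉ centralizer ((S : Subgroup C) : Set C)
  x_cube : x ^ 3 ∈ centralizer ((S : Subgroup C) : Set C)
  x_gen : ∀ y ∈ normalizer ((S : Subgroup C) : Set C), ∃ j : ℕ,
    y * (x ^ j)⁻¹ ∈ centralizer ((S : Subgroup C) : Set C)

variable {z : C} {S : Sylow 2 C} {x : C}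

namespace Loc

theorem odd_core (h : Loc z S x) : Odd (Nat.card O) :=
  Nat.Coprime.odd_of_right (PCore.coprime_card_pPrimeCore (p := 2) (G := C))

theorem orderOf_core (h : Loc z S x) {o : C} (ho : o ∈ O) : Odd (orderOf o) :=
  (h.odd_core).of_dvd_nat (orderOf_dvd_natCard _ ho)

theorem inf_core (h : Loc z S x) {s : C} (hs : s ∈ (S : Subgroup C)) (ho : s ∈ O) : s = 1 := by
  have h1 : orderOf s ∣ 2 := orderOf_dvd_of_pow_eq_one (h.sq s hs)
  rcases (Nat.dvd_prime Nat.prime_two).1 h1 with e | e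
  · exact orderOf_eq_one_iff.1 e
  · have := h.orderOf_core ho
    rw [e] at this
    exact absurd this (by decide)

theorem sup_normal (h : Loc z S x) : ((S : Subgroup C) ⊔ O).Normal ∧
    centralizer ((S : Subgroup C) : Set C) ≤ (S : Subgroup C) ⊔ O := by
  haveI : Fact (Nat.Prime 2) := ⟨Nat.prime_two⟩
  haveI := h.solv
  set π := QuotientGroup.mk' O
  have hπ : Function.Surjective π := QuotientGroup.mk'_surjective _
  haveI : Group.IsSolvable (C ⧸ O) := Group.isSolvable_of_surjective hπ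
  set S' : Sylow 2 (C ⧸ O) := S.mapSurjective hπ
  have hS' : ((S' : Subgroup (C ⧸ O))) = (S : Subgroup C).map π := rfl
  have hC := PCore.centralizer_pCore_le_of_isSolvable (p := 2)
    (PCore.pPrimeCore_quotient_self_eq_bot (p := 2) (G := C))
  have h1 : (S : Subgroup C).map π ≤ pCore 2 (C ⧸ O) := by
    refine le_trans (fun y hy => ?_) hC
    rw [mem_centralizer_iff]
    intro w hw
    obtain ⟨a, ha, rfl⟩ := hy
    obtain ⟨b, hb, rfl⟩ := hS' ▸ PCore.pCore_le_sylow S' hw
    rw [← map_mul, ← map_mul]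
    exact congrArg π (congrArg Subtype.val (h.comm.is_comm.comm ⟨b, hb⟩ ⟨a, ha⟩))
  have h2 : (S : Subgroup C).map π = pCore 2 (C ⧸ O) := le_antisymm h1 (hS' ▸ PCore.pCore_le_sylow S')
  have h3 : (pCore 2 (C ⧸ O)).comap π = (S : Subgroup C) ⊔ O := by
    rw [← h2, comap_map_eq, QuotientGroup.ker_mk']
  refine ⟨h3 ▸ inferInstance, fun c hc => ?_⟩
  rw [← h3, mem_comap]
  refine hC ?_
  rw [mem_centralizer_iff]
  intro w hw
  rw [← h2] at hw
  obtain ⟨a, ha, rfl⟩ := hw
  rw [← map_mul, ← map_mul, mem_centralizer_iff.1 hc a ha]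

theorem x_cube_core (h : Loc z S x) : x ^ 3 ∈ O := by
  haveI := h.sup_normal.1
  obtain ⟨s, hs, o, ho, e⟩ := mem_sup_of_normal_right.1 (h.sup_normal.2 h.x_cube)
  obtain ⟨r, hr⟩ := h.x_odd
  have hπ : ((s : C) : C ⧸ O) = ((x ^ 3 : C) : C ⧸ O) := by
    rw [← e, QuotientGroup.mk_mul, (QuotientGroup.eq_one_iff o).2 ho, mul_one]
  have h1 : ((s : C) : C ⧸ O) ^ orderOf x = 1 := by
    rw [hπ, ← QuotientGroup.mk_pow, ← pow_mul, mul_comm, pow_mul, pow_orderOf_eq_one, one_pow,
      QuotientGroup.mk_one]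
  have h2 : ((s : C) : C ⧸ O) ^ 2 = 1 := by rw [← QuotientGroup.mk_pow, h.sq s hs, QuotientGroup.mk_one]
  rw [hr, pow_succ, pow_mul, h2, one_pow, one_mul, QuotientGroup.eq_one_iff] at h1
  rw [← e, h.inf_core hs h1, one_mul]
  exact ho

theorem x_not_mem (h : Loc z S x) : x ∉ (S : Subgroup C) ⊔ O := by
  intro hx
  obtain ⟨s, hs, o, ho, e⟩ := mem_sup_of_normal_right.1 hx
  obtain ⟨r, hr⟩ := h.x_odd
  have hπ : ((s : C) : C ⧸ O) = ((x : C) : C ⧸ O) := by
    rw [← e, QuotientGroup.mk_mul, (QuotientGroup.eq_one_iff o).2 ho, mul_one]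
  have h1 : ((s : C) : C ⧸ O) ^ orderOf x = 1 := by
    rw [hπ, ← QuotientGroup.mk_pow, pow_orderOf_eq_one, QuotientGroup.mk_one]
  have h2 : ((s : C) : C ⧸ O) ^ 2 = 1 := by rw [← QuotientGroup.mk_pow, h.sq s hs, QuotientGroup.mk_one]
  rw [hr, pow_succ, pow_mul, h2, one_pow, one_mul, QuotientGroup.eq_one_iff] at h1
  have hxo : x ∈ O := by rw [← e, h.inf_core hs h1, one_mul]; exact ho
  refine h.x_not (mem_centralizer_iff.2 fun a ha => ?_)
  have hd : x * a * x⁻¹ * a⁻¹ ∈ O := by
    have : a * x⁻¹ * a⁻¹ ∈ O := (inferInstance : (pPrimeCore 2 C).Normal).conj_mem _ (inv_mem hxo) a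
    have e' : x * a * x⁻¹ * a⁻¹ = x * (a * x⁻¹ * a⁻¹) := by group
    rw [e']
    exact mul_mem hxo this
  have := h.inf_core (mul_mem ((mem_normalizer_iff.1 h.x_norm a).1 ha) (inv_mem ha)) hd
  rw [mul_inv_eq_one, mul_inv_eq_iff_eq_mul] at this
  exact this.symm

theorem index_sup (h : Loc z S x) : ((S : Subgroup C) ⊔ O).index = 3 := by
  haveI : Fact (Nat.Prime 2) := ⟨Nat.prime_two⟩
  set M := (S : Subgroup C) ⊔ O
  haveI : M.Normal := h.sup_normal.1
  have hf := Sylow.normalizer_sup_eq_top' S (le_sup_left : (S : Subgroup C) ≤ M)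
  have hx3 : (x : C ⧸ M) ^ 3 = 1 := by
    rw [← QuotientGroup.mk_pow, QuotientGroup.eq_one_iff]
    exact mem_sup_right h.x_cube_core
  have hgen : zpowers (x : C ⧸ M) = ⊤ := by
    rw [eq_top_iff]
    intro q _
    obtain ⟨c, rfl⟩ := QuotientGroup.mk_surjective q
    obtain ⟨n, hn, m, hm, rfl⟩ := mem_sup_of_normal_right.1 (hf ▸ mem_top c : c ∈ normalizer _ ⊔ M)
    obtain ⟨j, hj⟩ := h.x_gen n hn
    have hq : (n : C ⧸ M) = ((x : C ⧸ M)) ^ j := by
      rw [← QuotientGroup.mk_pow, QuotientGroup.eq]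
      have h4 : n * (x ^ j)⁻¹ ∈ M := h.sup_normal.2 hj
      have h5 := ‹M.Normal›.conj_mem _ (inv_mem h4) n⁻¹
      simpa [mul_assoc] using h5
    rw [QuotientGroup.mk_mul, (QuotientGroup.eq_one_iff m).2 hm, mul_one, hq]
    exact pow_mem (mem_zpowers _) j
  have hx1 : (x : C ⧸ M) ≠ 1 := fun e => h.x_not_mem ((QuotientGroup.eq_one_iff x).1 e)
  rw [Subgroup.index, ← card_top (G := C ⧸ M), ← hgen, Nat.card_zpowers]
  exact orderOf_eq_prime hx3 hx1

theorem card_sup (h : Loc z S x) : Nat.card ↥((S : Subgroup C) ⊔ O) = 8 * Nat.card O := by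
  have e : (pPrimeCore 2 C).relIndex ((S : Subgroup C) ⊔ O) = Nat.card (S : Subgroup C) := by
    rw [relIndex_sup_right, ← inf_relIndex_right]
    have : O ⊓ (S : Subgroup C) = ⊥ := (eq_bot_iff_forall _).2 fun a ha => h.inf_core ha.2 ha.1
    rw [this, relIndex_bot_left]
  rw [← h.card, ← e]
  have := relIndex_mul_relIndex ⊥ O ((S : Subgroup C) ⊔ O) bot_le le_sup_right
  rw [relIndex_bot_left, relIndex_bot_left] at this
  rw [← this, mul_comm]

theorem card_eq (h : Loc z S x) : Nat.card C = 24 * Nat.card O := by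
  rw [← index_mul_card ((S : Subgroup C) ⊔ O), h.index_sup, h.card_sup]
  ring

theorem center_normal (h : Loc z S x) : (zpowers z).Normal := ⟨fun n hn g => by
  obtain ⟨k, rfl⟩ := mem_zpowers_iff.1 hn
  have hc : Commute g (z ^ k) := Commute.zpow_right (h.central g) k
  rw [hc.eq, mul_inv_cancel_right]
  exact zpow_mem (mem_zpowers z) k⟩

theorem mem_R (h : Loc z S x) {c : C} : c ∈ zpowers z ⊔ O ↔ c ∈ O ∨ z * c ∈ O := by
  have hz2 : z * z = 1 := by rw [← pow_two]; exact h.sq z h.z_mem
  constructor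
  · intro hc
    obtain ⟨w, hw, o, ho, rfl⟩ := mem_sup_of_normal_right.1 hc
    obtain ⟨k, rfl⟩ := mem_zpowers_iff.1 hw
    have h2 : z ^ (2 : ℤ) = 1 := by simpa [pow_two] using hz2
    rcases Int.emod_two_eq k with e | e
    · left
      rwa [← Int.mul_ediv_add_emod k 2, e, add_zero, zpow_mul, h2, one_zpow, one_mul]
    · right
      rwa [← Int.mul_ediv_add_emod k 2, e, zpow_add, zpow_mul, h2, one_zpow, one_mul, zpow_one,
        ← mul_assoc, hz2, one_mul]
  · rintro (hc | hc)
    · exact mem_sup_right hc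
    · rw [show c = z * (z * c) by rw [← mul_assoc, hz2, one_mul]]
      exact mul_mem (mem_sup_left (mem_zpowers z)) (mem_sup_right hc)

theorem card_R (h : Loc z S x) : Nat.card ↥(zpowers z ⊔ O) = 2 * Nat.card O := by
  have hz : Nat.card (zpowers z) = 2 := by
    rw [Nat.card_zpowers]
    exact orderOf_eq_prime (h.sq z h.z_mem) h.z_ne
  have e : (pPrimeCore 2 C).relIndex (zpowers z ⊔ O) = 2 := by
    rw [relIndex_sup_right, ← inf_relIndex_right]
    have : O ⊓ zpowers z = ⊥ := (eq_bot_iff_forall _).2 fun a ha =>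
      h.inf_core ((zpowers_le.2 h.z_mem) ha.2) ha.1
    rw [this, relIndex_bot_left, hz]
  have := relIndex_mul_relIndex ⊥ O (zpowers z ⊔ O) bot_le le_sup_right
  rw [relIndex_bot_left, relIndex_bot_left, e] at this
  rw [← this, mul_comm]

/-- A subgroup of index four with the three kinds of fixed point counts. -/
theorem exists_points (h : Loc z S x) :
    ∃ Q : Subgroup C, ∀ c : C,
      (c ∈ zpowers z ⊔ O → ∀ q : C ⧸ Q, c • q = q) ∧
      (c ∈ zpowers z ⊔ O → Nat.card (MulAction.fixedBy (C ⧸ Q) c) = 4) ∧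
      (c ∈ (S : Subgroup C) ⊔ O → c ∉ zpowers z ⊔ O → Nat.card (MulAction.fixedBy (C ⧸ Q) c) = 0) ∧
      (c ∉ (S : Subgroup C) ⊔ O → Nat.card (MulAction.fixedBy (C ⧸ Q) c) = 1) := by
  classical
  haveI := Fintype.ofFinite C
  set M := (S : Subgroup C) ⊔ O with hM
  set R := zpowers z ⊔ O with hR
  haveI hMn : M.Normal := h.sup_normal.1
  haveI := h.center_normal
  haveI hRn : R.Normal := inferInstance
  have hRM : R ≤ M := sup_le_sup_right (zpowers_le.2 h.z_mem) _
  have hx3 : x ^ 3 ∈ R := mem_sup_right h.x_cube_core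
  set Q := zpowers x ⊔ R with hQ
  have hQM : ∀ c ∈ Q, c ∈ M → c ∈ R := by
    intro c hc hcM
    obtain ⟨w, hw, r, hr, rfl⟩ := mem_sup_of_normal_right.1 hc
    obtain ⟨k, rfl⟩ := mem_zpowers_iff.1 hw
    refine mul_mem ?_ hr
    have hk : x ^ k ∈ M := by
      have := mul_mem hcM (inv_mem (hRM hr))
      rwa [mul_inv_cancel_right] at this
    have e3 : x ^ (k / 3 * 3) ∈ R := by
      rw [mul_comm, zpow_mul, show x ^ (3 : ℤ) = x ^ 3 from zpow_natCast x 3]
      exact zpow_mem hx3 _
    rcases (by omega : k % 3 = 0 ∨ k % 3 = 1 ∨ k % 3 = 2) with e | e | e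
    · rwa [show k = k / 3 * 3 by omega]
    · exfalso
      rw [show k = k / 3 * 3 + 1 by omega, zpow_add, zpow_one] at hk
      exact h.x_not_mem ((mul_mem_cancel_left (hRM e3)).1 hk)
    · exfalso
      rw [show k = k / 3 * 3 + 2 by omega, zpow_add, show x ^ (2 : ℤ) = x ^ 2 from zpow_natCast x 2] at hk
      have h2 := (mul_mem_cancel_left (hRM e3)).1 hk
      have h3 : x ^ 3 ∈ M := hRM hx3
      rw [pow_succ] at h3
      exact h.x_not_mem ((mul_mem_cancel_left h2).1 h3)
  have hidx : Q.index = 4 := by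
    have hQM' : Q ⊔ M = ⊤ := by
      have hi : (Q ⊔ M).index ∣ 3 := h.index_sup ▸ index_dvd_of_le le_sup_right
      rcases (Nat.dvd_prime Nat.prime_three).1 hi with e | e
      · exact index_eq_one.1 e
      · exfalso
        have h1 := relIndex_mul_index (le_sup_right : M ≤ Q ⊔ M)
        rw [e, h.index_sup] at h1
        have h2 : M.relIndex (Q ⊔ M) = 1 := by omega
        exact h.x_not_mem (relIndex_eq_one.1 h2 (mem_sup_left (mem_sup_left (mem_zpowers x))))
    have hinf : M ⊓ Q = R :=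
      le_antisymm (fun c hc => hQM c hc.2 hc.1) (le_inf hRM le_sup_right)
    have h1 : R.relIndex Q = 3 := by
      rw [← hinf, inf_relIndex_right, ← relIndex_sup_right (H := Q) (K := M), hQM', relIndex_top_right,
        h.index_sup]
    have h2 := relIndex_mul_relIndex ⊥ R Q bot_le le_sup_right
    rw [relIndex_bot_left, relIndex_bot_left, h.card_R, h1] at h2
    have h3 := Q.index_mul_card
    rw [← h2, h.card_eq] at h3
    have : 0 < Nat.card O := Nat.card_pos
    nlinarith
  have fixR : ∀ c ∈ R, ∀ q : C ⧸ Q, c • q = q := by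
    intro c hc q
    obtain ⟨g, rfl⟩ := QuotientGroup.mk_surjective q
    rw [MulAction.Quotient.smul_mk, smul_eq_mul, QuotientGroup.eq]
    have e : (c * g)⁻¹ * g = g⁻¹ * c⁻¹ * g⁻¹⁻¹ := by group
    rw [e]
    exact mem_sup_right (hRn.conj_mem _ (inv_mem hc) g⁻¹)
  have noM : ∀ c ∈ M, ∀ g : C, c • (g : C ⧸ Q) = g → c ∈ R := by
    intro c hc g hg
    rw [MulAction.Quotient.smul_mk, smul_eq_mul, QuotientGroup.eq] at hg
    have e : (c * g)⁻¹ * g = g⁻¹ * c⁻¹ * g⁻¹⁻¹ := by group
    rw [e] at hg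
    have := hRn.conj_mem _ (hQM _ hg (hMn.conj_mem _ (inv_mem hc) g⁻¹)) g
    have e2 : g * (g⁻¹ * c⁻¹ * g⁻¹⁻¹) * g⁻¹ = c⁻¹ := by group
    rw [e2] at this
    simpa using inv_mem this
  refine ⟨Q, fun c => ⟨fixR c, fun hc => ?_, fun hc hc' => ?_, fun hc => ?_⟩⟩
  · rw [show MulAction.fixedBy (C ⧸ Q) c = Set.univ from Set.eq_univ_of_forall fun q => fixR c hc q,
      Nat.card_coe_set_eq, Set.ncard_univ, ← Subgroup.index, hidx]
  · rw [Nat.card_eq_zero]
    refine Or.inl ⟨fun ⟨q, hq⟩ => ?_⟩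
    obtain ⟨g, rfl⟩ := QuotientGroup.mk_surjective q
    exact hc' (noM c hc g hq)
  · haveI := Fintype.ofFinite (C ⧸ Q)
    let e : C ⧸ Q ≃ Fin 4 := Fintype.equivFinOfCardEq (by rw [← Nat.card_eq_fintype_card, ← Subgroup.index, hidx])
    let σ : C →* Equiv.Perm (Fin 4) := e.permCongrHom.toMonoidHom.comp (MulAction.toPermHom C (C ⧸ Q))
    have hσ : ∀ (d : C) (i : Fin 4), σ d i = e (d • e.symm i) := fun d i => rfl
    have evenM : ∀ d ∈ M, Equiv.Perm.sign (σ d) = 1 := by
      intro d hd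
      by_cases hdR : d ∈ R
      · have : σ d = 1 := Equiv.ext fun i => by rw [hσ, fixR d hdR, e.apply_symm_apply]; rfl
        rw [this, map_one]
      · refine perm_four.1 _ ?_ fun i hi => hdR ?_
        · rw [← map_mul]
          have hd2 : d * d ∈ R := by
            obtain ⟨s, hs, o, ho, rfl⟩ := mem_sup_of_normal_right.1 hd
            refine mem_sup_right ?_
            rw [← QuotientGroup.eq_one_iff]
            simp only [QuotientGroup.mk_mul, (QuotientGroup.eq_one_iff o).2 ho, mul_one]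
            rw [← QuotientGroup.mk_mul, ← pow_two, h.sq s hs, QuotientGroup.mk_one]
          exact Equiv.ext fun i => by rw [hσ, fixR _ hd2, e.apply_symm_apply]; rfl
        · obtain ⟨g, hg⟩ := QuotientGroup.mk_surjective (e.symm i)
          refine noM d hd g ?_
          rw [hσ, ← e.eq_symm_apply] at hi
          rwa [hg]
    have hsign : Equiv.Perm.sign (σ c) = 1 := by
      have h3 : c ^ 3 ∈ M := h.index_sup ▸ pow_index_mem M c
      have h4 := evenM _ h3
      rw [map_pow, map_pow] at h4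
      rcases Int.units_eq_one_or (Equiv.Perm.sign (σ c)) with e | e
      · exact e
      · rw [e] at h4; exact absurd h4 (by decide)
    rcases perm_four.2 _ hsign with h2 | h1
    · exfalso
      rw [← map_mul] at h2
      have hfix : ∀ q : C ⧸ Q, (c * c) • q = q := fun q => by
        have := congrArg (fun τ : Equiv.Perm (Fin 4) => τ (e q)) h2
        simp only [hσ, e.symm_apply_apply, Equiv.Perm.one_apply] at this
        exact e.injective this
      have key : ∀ k : C, (∀ q : C ⧸ Q, k • q = q) → k ∈ M := by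
        intro k hk
        have hk' : ∀ g : C, g⁻¹ * k * g ∈ Q := fun g => by
          have := hk (g : C ⧸ Q)
          rw [MulAction.Quotient.smul_mk, smul_eq_mul, QuotientGroup.eq] at this
          simpa [mul_assoc] using inv_mem this
        obtain ⟨w, hw, r, hr, rfl⟩ := mem_sup_of_normal_right.1 (by simpa using hk' 1)
        obtain ⟨j, rfl⟩ := mem_zpowers_iff.1 hw
        refine mul_mem ?_ (hRM hr)
        set y := x ^ j with hy
        have hyN : y ∈ normalizer ((S : Subgroup C) : Set C) := zpow_mem h.x_norm j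
        have hz : y * z * y⁻¹ = z := by rw [h.central, mul_inv_cancel_right]
        have hd : ∀ s ∈ (S : Subgroup C), s⁻¹ * (y * s * y⁻¹) ∈ R := by
          intro s hs
          have hyQ : y ∈ Q := mem_sup_left (zpow_mem (mem_zpowers x) j)
          have h1 : s⁻¹ * y * s * y⁻¹ ∈ Q := by
            refine mul_mem ?_ (inv_mem hyQ)
            have h2 := hk' s
            have e : s⁻¹ * y * s = (s⁻¹ * (y * r) * s) * (s⁻¹ * r⁻¹ * s⁻¹⁻¹) := by group
            rw [e]
            exact mul_mem h2 (mem_sup_right (hRn.conj_mem _ (inv_mem hr) s⁻¹))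
          refine hQM _ (by simpa [mul_assoc] using h1) (mem_sup_left (mul_mem (inv_mem hs) ?_))
          exact (mem_normalizer_iff.1 hyN s).1 hs
        have hsz : ∀ s ∈ (S : Subgroup C), y * s * y⁻¹ = s ∨ y * s * y⁻¹ = s * z := by
          intro s hs
          have hmem : s⁻¹ * (y * s * y⁻¹) ∈ (S : Subgroup C) :=
            mul_mem (inv_mem hs) ((mem_normalizer_iff.1 hyN s).1 hs)
          rcases h.mem_R.1 (hd s hs) with ho | ho
          · left
            have := h.inf_core hmem ho
            exact (inv_mul_eq_one.1 this).symm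
          · right
            have := h.inf_core (mul_mem h.z_mem hmem) ho
            have hz' : z⁻¹ = z := inv_eq_of_mul_eq_one_right (by rw [← pow_two]; exact h.sq z h.z_mem)
            have e2 : s⁻¹ * (y * s * y⁻¹) = z := by
              rw [← inv_eq_of_mul_eq_one_right this, hz']
            exact inv_mul_eq_iff_eq_mul.1 e2
        have hy2 : y ^ 2 ∈ centralizer ((S : Subgroup C) : Set C) := by
          refine mem_centralizer_iff.2 fun s hs => ?_
          have e : y ^ 2 * s * (y ^ 2)⁻¹ = s := by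
            rw [pow_two, show y * y * s * (y * y)⁻¹ = y * (y * s * y⁻¹) * y⁻¹ by group]
            rcases hsz s hs with e | e <;> rw [e]
            · exact e
            · rw [show y * (s * z) * y⁻¹ = (y * s * y⁻¹) * (y * z * y⁻¹) by group, hz, e, mul_assoc,
                ← pow_two, h.sq z h.z_mem, mul_one]
          exact (mul_inv_eq_iff_eq_mul.1 e).symm
        obtain ⟨r', hr'⟩ := h.x_odd
        have hyo : y ^ orderOf x = 1 := by
          rw [hy, ← zpow_natCast, ← zpow_mul, mul_comm, zpow_mul, zpow_natCast, pow_orderOf_eq_one, one_zpow]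
        have : y = (y ^ 2) ^ (r' + 1) := by
          rw [← pow_mul, show 2 * (r' + 1) = orderOf x + 1 by omega, pow_succ, hyo, one_mul]
        rw [this]
        exact h.sup_normal.2 (pow_mem hy2 _)
      have h4 := key _ hfix
      have h3 : c ^ 3 ∈ M := h.index_sup ▸ pow_index_mem M c
      rw [pow_succ, pow_two] at h3
      exact hc ((mul_mem_cancel_left h4).1 h3)
    · rw [← h1, ← Nat.card_eq_finsetCard]
      exact Nat.card_congr (e.subtypeEquiv fun q => by simp [hσ])

theorem even_index (h : Loc z S x) : ((S : Subgroup C)).index = 3 * Nat.card O := by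
  have h1 := (S : Subgroup C).index_mul_card
  rw [h.card_eq, h.card] at h1
  omega

theorem exists_eps (h : Loc z S x) : ∃ ε : C →* ℂ, ε z = -1 ∧ ∀ c, ε c = 1 ∨ ε c = -1 := by
  haveI := h.comm
  letI : CommGroup (S : Subgroup C) := { mul_comm := fun a b => h.comm.is_comm.comm a b }
  haveI : NeZero (Monoid.exponent (S : Subgroup C) : ℂ) :=
    ⟨Nat.cast_ne_zero.2 Monoid.exponent_ne_zero_of_finite⟩
  obtain ⟨φ, hφ⟩ := CommGroup.exists_apply_ne_one_of_hasEnoughRootsOfUnity (S : Subgroup C) ℂ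
    (a := ⟨z, h.z_mem⟩) (fun e => h.z_ne (congrArg Subtype.val e))
  have hsq : ∀ s, φ s ^ 2 = 1 := fun s => by
    rw [← map_pow, show s ^ 2 = 1 from Subtype.ext (by simpa using h.sq s s.2), map_one]
  have hpm : ∀ s, ((φ s : ℂˣ) : ℂ) = 1 ∨ ((φ s : ℂˣ) : ℂ) = -1 := fun s => by
    have := congrArg (fun u : ℂˣ => (u : ℂ)) (hsq s)
    simp only [Units.val_pow_eq_pow_val, Units.val_one] at this
    exact sq_eq_one_iff.1 this
  let τ := MonoidHom.transfer (H := (S : Subgroup C)) φ
  refine ⟨(Units.coeHom ℂ).comp τ, ?_, fun c => ?_⟩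
  · have hk : ∀ (k : ℕ) (g₀ : C), g₀⁻¹ * z ^ k * g₀ ∈ (S : Subgroup C) → g₀⁻¹ * z ^ k * g₀ = z ^ k :=
      fun k g₀ _ => by
        rw [mul_assoc, ← ((Commute.pow_right (h.central g₀) k).eq), inv_mul_cancel_left]
    have hz2 : z ^ ((S : Subgroup C)).index = z := by
      rw [h.even_index]
      obtain ⟨r, hr⟩ := h.odd_core
      rw [hr, show 3 * (2 * r + 1) = 2 * (3 * r + 1) + 1 by ring, pow_succ, pow_mul, h.sq z h.z_mem,
        one_pow, one_mul]
    have e := MonoidHom.transfer_eq_pow φ z hk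
    show ((τ z : ℂˣ) : ℂ) = -1
    rw [show τ z = _ from e]
    rcases hpm ⟨z ^ ((S : Subgroup C)).index, by rw [hz2]; exact h.z_mem⟩ with e1 | e1
    · exfalso
      refine hφ (Units.ext ?_)
      rw [Units.val_one, ← e1]
      exact congrArg (fun s => ((φ s : ℂˣ) : ℂ)) (Subtype.ext hz2.symm)
    · exact e1
  · show ((τ c : ℂˣ) : ℂ) = 1 ∨ ((τ c : ℂˣ) : ℂ) = -1
    have : τ c ^ 2 = 1 := by
      rw [show τ c = _ from MonoidHom.transfer_def φ (Inhabited.default) c]
      simp only [Subgroup.leftTransversals.diff]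
      rw [← Finset.prod_pow]
      exact Finset.prod_eq_one fun q _ => hsq _
    have := congrArg (fun u : ℂˣ => (u : ℂ)) this
    simp only [Units.val_pow_eq_pow_val, Units.val_one] at this
    exact sq_eq_one_iff.1 this

theorem exists_lam (h : Loc z S x) :
    ∃ lam : C →* ℂ, (∀ c, lam c = 1 ↔ c ∈ (S : Subgroup C) ⊔ O) ∧ ∀ c, lam c ^ 3 = 1 := by
  set M := (S : Subgroup C) ⊔ O
  haveI : M.Normal := h.sup_normal.1
  haveI : Fact (Nat.Prime 3) := ⟨Nat.prime_three⟩
  have hc : Nat.card (C ⧸ M) = 3 := h.index_sup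
  haveI : IsCyclic (C ⧸ M) := isCyclic_of_prime_card hc
  letI : CommGroup (C ⧸ M) := IsCyclic.commGroup
  haveI : NeZero (Monoid.exponent (C ⧸ M) : ℂ) :=
    ⟨Nat.cast_ne_zero.2 Monoid.exponent_ne_zero_of_finite⟩
  obtain ⟨φ, hφ⟩ := CommGroup.exists_apply_ne_one_of_hasEnoughRootsOfUnity (C ⧸ M) ℂ
    (a := (x : C ⧸ M)) (fun e => h.x_not_mem ((QuotientGroup.eq_one_iff x).1 e))
  refine ⟨(Units.coeHom ℂ).comp (φ.comp (QuotientGroup.mk' M)), fun c => ⟨fun hc1 => ?_, fun hcM => ?_⟩,
    fun c => ?_⟩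
  · rw [← QuotientGroup.eq_one_iff]
    haveI : Fact (Nat.Prime (Nat.card (C ⧸ M))) := ⟨hc ▸ Nat.prime_three⟩
    rcases φ.ker.eq_bot_or_eq_top_of_prime_card with e | e
    · exact mem_bot.1 (e ▸ MonoidHom.mem_ker.2 (Units.ext hc1) : (c : C ⧸ M) ∈ (⊥ : Subgroup (C ⧸ M)))
    · exact absurd (MonoidHom.mem_ker.1 (e ▸ mem_top (x : C ⧸ M) : (x : C ⧸ M) ∈ φ.ker)) hφ
  · show ((φ (c : C ⧸ M) : ℂˣ) : ℂ) = 1
    rw [(QuotientGroup.eq_one_iff c).2 hcM, map_one, Units.val_one]
  · show ((φ (c : C ⧸ M) : ℂˣ) : ℂ) ^ 3 = 1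
    rw [← Units.val_pow_eq_pow_val, ← map_pow, ← hc, pow_card_eq_one', map_one, Units.val_one]

/-- The three generalized characters. -/
theorem exists_theta [Fintype C] (h : Loc z S x) : ∃ θ : Fin 3 → C → ℂ,
    (∀ i, IsGeneralizedCharacter C (θ i)) ∧
    (∀ i c, θ i c ≠ 0 → Odd (orderOf (z * c))) ∧
    (∀ i c, ∀ o ∈ O, θ i (c * o) = θ i c) ∧
    (∀ i j, classInner (θ i) (θ j) = if i = j then 4 else 2) ∧
    (∀ i, classInner (θ i) (fun _ => 1) = if i = 0 then 1 else 0) ∧
    (∀ c, ((∑ i, θ i c) = 24 ∧ z * c ∈ O) ∨ ((∑ i, θ i c) = 0 ∧ z * c ∉ O)) ∧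
    (∀ i j, ∀ u v : C, u ^ 2 = 1 → v ^ 2 = 1 → θ i (u * v) = θ j (u * v)) := by
  classical
  obtain ⟨ε, hεz, hε⟩ := h.exists_eps
  obtain ⟨lam, hlam, hlam3⟩ := h.exists_lam
  obtain ⟨Q, hQ⟩ := h.exists_points
  set M := (S : Subgroup C) ⊔ O with hMdef
  set R := zpowers z ⊔ O with hRdef
  have hεO : ∀ o ∈ O, ε o = 1 := by
    intro o ho
    rcases hε o with e | e
    · exact e
    · exfalso
      have h1 := congrArg ε (pow_orderOf_eq_one o)
      rw [map_pow, map_one, e, (h.orderOf_core ho).neg_one_pow] at h1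
      norm_num at h1
  have hεzc : ∀ c, ε (z * c) = - ε c := fun c => by rw [map_mul, hεz, neg_one_mul]
  have hzM : z ∈ M := mem_sup_left h.z_mem
  have hRM : R ≤ M := sup_le_sup_right (zpowers_le.2 h.z_mem) _
  let P : C → ℂ := fun c => Nat.card (MulAction.fixedBy (C ⧸ Q) c)
  let θ : Fin 3 → C → ℂ := fun i c => (1 - ε c) * lam c ^ (i : ℕ) * P c
  have hzO : ∀ c, z * c ∈ O → c ∈ R ∧ ε c = -1 := fun c hc => ⟨h.mem_R.2 (Or.inr hc), by
    have := hεO _ hc
    rw [hεzc] at this
    linear_combination -this⟩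
  -- the shape
  have shape : ∀ i c, θ i c = (if z * c ∈ O then 8 else 0) + (1 - ε c) * lam c ^ (i : ℕ) -
      (if c ∈ M then 1 - ε c else 0) := by
    intro i c
    show (1 - ε c) * lam c ^ (i : ℕ) * P c = _
    by_cases hM : c ∈ M
    · rw [(hlam c).2 hM, one_pow, mul_one, if_pos hM, add_sub_cancel_right]
      by_cases hR : c ∈ R
      · rcases h.mem_R.1 hR with hc | hc
        · rw [hεO c hc, sub_self, zero_mul, if_neg]
          intro hc'
          have h1 : z ∈ O := by simpa using mul_mem hc' (inv_mem hc)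
          exact h.z_ne (h.inf_core h.z_mem h1)
        · rw [if_pos hc, (hzO c hc).2]
          simp only [P, (hQ c).2.1 hR]
          norm_num
      · simp only [P, (hQ c).2.2.1 hM hR, Nat.cast_zero, mul_zero]
        rw [if_neg fun hc => hR (hzO c hc).1]
    · rw [if_neg hM, sub_zero, if_neg fun hc => hM (hRM (hzO c hc).1), zero_add]
      simp only [P, (hQ c).2.2.2 hM, Nat.cast_one, mul_one]
  have sumM : ∑ c : C, (if c ∈ M then 1 - ε c else 0) = (Nat.card M : ℂ) := by
    rw [← Finset.sum_filter, Finset.sum_subtype (p := (· ∈ M)) _ (by simp), Finset.sum_sub_distrib]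
    have e1 : ∑ m : M, ε (m : C) = 0 := sum_hom_units_eq_zero (ε.comp M.subtype) (fun e => by
      have := DFunLike.congr_fun e ⟨z, hzM⟩
      simp only [MonoidHom.coe_comp, Function.comp_apply, coe_subtype, hεz, MonoidHom.one_apply] at this
      norm_num at this)
    rw [e1, sub_zero, Finset.sum_const, Finset.card_univ, nsmul_eq_mul, mul_one, Nat.card_eq_fintype_card]
  have sumO : ∑ c : C, (if z * c ∈ O then (1 : ℂ) else 0) = (Nat.card O : ℂ) := by
    rw [Fintype.sum_equiv (Equiv.mulLeft z) (fun c => if z * c ∈ O then (1 : ℂ) else 0)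
      (fun c => if c ∈ O then (1 : ℂ) else 0) (fun c => rfl), Finset.sum_boole, Nat.card_eq_fintype_card,
      Fintype.card_subtype]
  have sumχ : ∀ k : ℕ, ∑ c : C, (1 - ε c) * lam c ^ k = if k % 3 = 0 then (Nat.card C : ℂ) else 0 := by
    intro k
    have e1 : ∑ c : C, ε c * lam c ^ k = 0 := sum_hom_units_eq_zero (ε * lam ^ k) (fun e => by
      have := DFunLike.congr_fun e z
      simp only [MonoidHom.mul_apply, MonoidHom.one_apply, MonoidHom.pow_apply, hεz, (hlam z).2 hzM,
        one_pow, mul_one] at this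
      norm_num at this)
    simp only [sub_mul, one_mul, Finset.sum_sub_distrib, e1, sub_zero]
    have key : ∀ c, lam c ^ k = lam c ^ (k % 3) := fun c => pow_eq_pow_mod k (hlam3 c)
    split_ifs with hk
    · simp only [key, hk, pow_zero, Finset.sum_const, Finset.card_univ, nsmul_eq_mul, mul_one,
        Nat.card_eq_fintype_card]
    · refine sum_hom_units_eq_zero (lam ^ k) (fun e => ?_)
      have := DFunLike.congr_fun e x
      rw [MonoidHom.pow_apply, MonoidHom.one_apply, key] at this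
      rcases (by omega : k % 3 = 1 ∨ k % 3 = 2) with e' | e' <;> rw [e'] at this
      · rw [pow_one] at this
        exact h.x_not_mem ((hlam x).1 this)
      · have h3 := hlam3 x
        rw [pow_succ, this, one_mul] at h3
        exact h.x_not_mem ((hlam x).1 h3)
  have hconjl : ∀ c, conj (lam c) = lam c ^ 2 := fun c => by
    have h1 := Char.normSq_linear lam c
    calc conj (lam c) = lam c ^ 3 * conj (lam c) := by rw [hlam3, one_mul]
      _ = lam c ^ 2 * (lam c * conj (lam c)) := by ring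
      _ = lam c ^ 2 := by rw [h1, mul_one]
  have hcardC : (Nat.card C : ℂ) = 24 * Nat.card O := by rw [h.card_eq]; push_cast; ring
  have hcardM : (Nat.card M : ℂ) = 8 * Nat.card O := by rw [h.card_sup]; push_cast; ring
  have hO0 : (Nat.card O : ℂ) ≠ 0 := Nat.cast_ne_zero.2 Nat.card_pos.ne'
  refine ⟨θ, fun i => ?_, fun i c hc => ?_, fun i c o ho => ?_, fun i j => ?_, fun i => ?_, fun c => ?_,
    fun i j u v hu hv => ?_⟩
  · have e : θ i = ((Char.linIrr 1).1 - (Char.linIrr ε).1) * (Char.linIrr (lam ^ (i : ℕ))).1 * P := by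
      funext c; simp [θ]
    rw [e]
    exact Char.IsGeneralizedCharacter.mul (Char.IsGeneralizedCharacter.mul
      (Char.IsGeneralizedCharacter.sub (Char.irr_isGeneralized _) (Char.irr_isGeneralized _))
      (Char.irr_isGeneralized _)) (Char.IsCharacter.isGeneralized (Char.isCharacter_fixedBy (C ⧸ Q)))
  · have hεc : ε c = -1 := by
      rcases hε c with e | e
      · exact absurd (by simp [θ, e]) hc
      · exact e
    have hodd : Odd (Nat.card O) := h.odd_core
    have hP : Nat.card (MulAction.fixedBy (C ⧸ Q) c) ≠ 0 := fun e => hc (by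
      show (1 - ε c) * lam c ^ (i : ℕ) * ((Nat.card (MulAction.fixedBy (C ⧸ Q) c) : ℕ) : ℂ) = 0
      rw [e, Nat.cast_zero, mul_zero])
    by_cases hM : c ∈ M
    · haveI : M.Normal := h.sup_normal.1
      have hR : c ∈ R := by_contra fun hR => hP ((hQ c).2.2.1 hM hR)
      rcases h.mem_R.1 hR with h0 | h0
      · rw [hεO c h0] at hεc; norm_num at hεc
      · exact h.orderOf_core h0
    · haveI : M.Normal := h.sup_normal.1
      obtain ⟨⟨q, hq⟩⟩ : Nonempty (MulAction.fixedBy (C ⧸ Q) c) := (Nat.card_ne_zero.1 hP).1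
      have h3 : c ^ 3 ∈ M := h.index_sup ▸ pow_index_mem M c
      have hR : c ^ 3 ∈ R := by
        by_contra hR
        have h0 := (hQ (c ^ 3)).2.2.1 h3 hR
        rw [Nat.card_eq_zero] at h0
        rcases h0 with h0 | h0
        · exact h0.false ⟨q, by
            rw [MulAction.mem_fixedBy, ← MulAction.mem_stabilizer_iff]
            exact pow_mem (MulAction.mem_stabilizer_iff.2 hq) 3⟩
        · exact h0.false
      have h30 : z * c ^ 3 ∈ O := by
        refine (h.mem_R.1 hR).resolve_left fun h0 => ?_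
        have := hεO _ h0
        rw [map_pow, hεc] at this
        norm_num at this
      have hzc : (z * c) ^ 3 ∈ O := by
        rw [Commute.mul_pow (h.central c).symm, show z ^ 3 = z by rw [pow_succ, h.sq z h.z_mem, one_mul]]
        exact h30
      have h1 := h.orderOf_core hzc
      refine (Odd.mul (by decide : Odd 3) h1).of_dvd_nat (orderOf_dvd_of_pow_eq_one ?_)
      rw [pow_mul, pow_orderOf_eq_one]
  · have hoR : o ∈ R := mem_sup_right ho
    have hPco : P (c * o) = P c := by
      show ((Nat.card (MulAction.fixedBy (C ⧸ Q) (c * o)) : ℕ) : ℂ) = _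
      refine congrArg Nat.cast (Nat.card_congr (Equiv.setCongr (Set.ext fun q => ?_)))
      rw [MulAction.mem_fixedBy, MulAction.mem_fixedBy, mul_smul, (hQ o).1 hoR q]
    show (1 - ε (c * o)) * lam (c * o) ^ (i : ℕ) * P (c * o) = _
    rw [hPco, map_mul, map_mul, hεO o ho, (hlam o).2 (mem_sup_right ho), mul_one, mul_one]
  · have pt : ∀ c, θ i c * conj (θ j c) = 64 * (if z * c ∈ O then 1 else 0) +
        2 * ((1 - ε c) * lam c ^ ((i : ℕ) + 2 * (j : ℕ))) - 2 * (if c ∈ M then 1 - ε c else 0) := by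
      intro c
      have hconjε : conj (ε c) = ε c := by rcases hε c with e | e <;> simp [e]
      rw [shape, shape]
      by_cases h0 : z * c ∈ O
      · obtain ⟨hR, he⟩ := hzO c h0
        have hM := hRM hR
        simp only [if_pos h0, if_pos hM, (hlam c).2 hM, he, one_pow]
        norm_num [map_ofNat]
      · simp only [if_neg h0]
        by_cases hM : c ∈ M
        · simp only [if_pos hM, (hlam c).2 hM, one_pow, mul_one]
          simp
        · simp only [if_neg hM, map_sub, map_add, map_mul, map_pow, map_one, map_zero, hconjl, hconjε]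
          rcases hε c with e | e <;> rw [e] <;> ring
    simp only [classInner, pt, Finset.sum_sub_distrib, Finset.sum_add_distrib, ← Finset.mul_sum, sumO, sumM, sumχ]
    by_cases hij : i = j
    · subst hij
      rw [if_pos (by omega), if_pos rfl, hcardC, hcardM]
      field_simp
      ring
    · rw [if_neg (fun e => hij (Fin.ext (by omega))), if_neg hij, hcardC, hcardM]
      field_simp
      ring
  · have pt : ∀ c, θ i c * conj (1 : ℂ) = 8 * (if z * c ∈ O then 1 else 0) +
        (1 - ε c) * lam c ^ (i : ℕ) - (if c ∈ M then 1 - ε c else 0) := by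
      intro c; rw [shape, map_one, mul_one]; split_ifs <;> ring
    simp only [classInner, pt, Finset.sum_sub_distrib, Finset.sum_add_distrib, ← Finset.mul_sum, sumO, sumM, sumχ]
    by_cases hi : i = 0
    · subst hi
      simp only [Fin.val_zero, Nat.zero_mod, if_true, hcardC, hcardM]
      field_simp
      ring
    · rw [if_neg (fun e => hi (Fin.ext (by simp; omega))), if_neg hi, hcardC, hcardM]
      field_simp
      ring
  · simp only [shape, Fin.sum_univ_three, Fin.val_zero, Fin.val_one, Fin.val_two, pow_zero, pow_one]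
    by_cases h0 : z * c ∈ O
    · refine Or.inl ⟨?_, h0⟩
      obtain ⟨hR, he⟩ := hzO c h0
      simp only [if_pos h0, if_pos (hRM hR), (hlam c).2 (hRM hR), he, one_pow]
      norm_num
    · refine Or.inr ⟨?_, h0⟩
      simp only [if_neg h0]
      by_cases hM : c ∈ M
      · simp only [if_pos hM, (hlam c).2 hM]; ring
      · have hne : lam c - 1 ≠ 0 := sub_ne_zero.2 fun e => hM ((hlam c).1 e)
        have : (lam c - 1) * (1 + lam c + lam c ^ 2) = 0 := by linear_combination hlam3 c
        have h1 := (mul_eq_zero.1 this).resolve_left hne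
        simp only [if_neg hM]
        linear_combination (1 - ε c) * h1
  · haveI : M.Normal := h.sup_normal.1
    have inM : ∀ w : C, w ^ 2 = 1 → w ∈ M := fun w hw => by
      have := pow_index_mem M w
      rw [show M.index = 3 from h.index_sup] at this
      rwa [pow_succ, hw, one_mul] at this
    simp only [shape, (hlam _).2 (mul_mem (inM u hu) (inM v hv)), one_pow]

end Loc

end Cfsg.Agent.EightSylow
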