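import Cfsg.Agent.Lib.EightSylow.Fusion
import Cfsg.Agent.Lib.EightSylow.Local
import Cfsg.Agent.Lib.EightSylow.Comb
import Cfsg.Agent.Lib.CharInt.TI
import Cfsg.Agent.Lib.CharInt.Basic
import Cfsg.Agent.Lib.Exceptional.InvolPairs
import Cfsg.Agent.Lib.SmallSimple.ExceptionalDegree
import Cfsg.Agent.Lib.ZStar.PrincipalConst
import Cfsg.Agent.Lib.ZStar.SectionAverage
import Cfsg.Agent.Lib.ZStar.Assemble
import Cfsg.Agent.Lib.Blocks.PConstrained

/-!
The automizer of an elementary abelian Sylow 2-subgroup of order eight in a simple group with solvable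
centralizers of involutions has order seven.
-/

set_option autoImplicit false
set_option linter.style.haveILetI false

namespace Cfsg.Agent.EightSylow

open Subgroup
open scoped ComplexConjugate

universe u

theorem blockCoeff_solvable {G : Type u} [Group G] [Finite G] [Group.IsSolvable G] {M : Ideal AlgInt}
    (hM : IsPModular 2 M) (g : G) [Decidable (g ∈ pPrimeCore 2 G)] :
    blockCoeff (principalBlock M G) g =
      if g ∈ pPrimeCore 2 G then (Nat.card (pPrimeCore 2 G) : ℂ)⁻¹ else 0 := by
  classical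
  haveI : Fact (Nat.Prime 2) := ⟨Nat.prime_two⟩
  set N := pPrimeCore 2 G
  haveI := Fintype.ofFinite G
  haveI := Fintype.ofFinite N
  have hN0 : (Nat.card N : ℂ) ≠ 0 := Nat.cast_ne_zero.mpr Nat.card_pos.ne'
  rw [Blocks.blockCoeff_eq_sum]
  simp only [BlockCount.mem_principalBlock_iff_trivOn hM]
  have h := Char.sum_trivOn_mul_conj N 1 g
  rw [inv_mul_eq_iff_eq_mul₀ Char.card_ne_zero]
  simp only [one_mul] at h
  split_ifs with hg
  · have hc : Nat.card {k : N // IsConj (k : G) g} = Nat.card {x : G // IsConj g x} := by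
      refine Nat.card_congr
        { toFun := fun k => ⟨k.1, k.2.symm⟩
          invFun := fun x => ⟨⟨x.1, ?_⟩, x.2.symm⟩
          left_inv := fun k => rfl
          right_inv := fun x => rfl }
      obtain ⟨c, hc⟩ := isConj_iff.mp x.2
      exact hc ▸ (inferInstance : N.Normal).conj_mem g hg c
    rw [hc, ← Nat.cast_mul, Blocks.card_isConj_eq_index, Subgroup.card_mul_index] at h
    field_simp
    linear_combination h
  · haveI : IsEmpty {k : N // IsConj (k : G) g} := by
      refine ⟨fun k => hg ?_⟩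
      obtain ⟨c, hc⟩ := isConj_iff.mp k.2
      exact hc ▸ (inferInstance : N.Normal).conj_mem _ k.1.2 c
    rw [Nat.card_of_isEmpty (α := {k : N // IsConj (k : G) g}), Nat.cast_zero, mul_zero] at h
    rw [mul_zero]
    exact (mul_eq_zero.mp h).resolve_left hN0

variable {G : Type u} [Group G] [Finite G]

/-- The elements of the 2-section of `t`. -/
def sect (t : G) : Set G := {g | ∃ y : G, Odd (orderOf y) ∧ y * t = t * y ∧ g = t * y}

theorem sect_pow {t g : G} (ht : t ^ 2 = 1) (hg : g ∈ sect t) :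
    ∃ n : ℕ, Odd n ∧ ∀ k : ℕ, Odd k → g ^ (n * k) = t := by
  obtain ⟨y, hy, hc, rfl⟩ := hg
  refine ⟨orderOf y, hy, fun k hk => ?_⟩
  obtain ⟨r, hr⟩ := hy.mul hk
  rw [(show Commute t y from hc.symm).mul_pow, pow_mul y, pow_orderOf_eq_one, one_pow, mul_one, hr,
    pow_succ, pow_mul, ht, one_pow, one_mul]

theorem sect_ti {t : G} (ht : t ^ 2 = 1) :
    ∀ g : G, ∀ s ∈ sect t, g⁻¹ * s * g ∈ sect t → g ∈ centralizer ({t} : Set G) := by
  intro g s hs hs'
  obtain ⟨n, hn, h1⟩ := sect_pow ht hs
  obtain ⟨m, hm, h2⟩ := sect_pow ht hs'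
  have e1 := h1 m hm
  have e2 := h2 n hn
  rw [mul_comm m n] at e2
  have e3 : g⁻¹ * t * g = t := by
    conv_rhs => rw [← e2]
    rw [show g⁻¹ * s * g = g⁻¹ * s * g⁻¹⁻¹ by rw [inv_inv], conj_pow, e1, inv_inv]
  rw [mem_centralizer_singleton_iff]
  calc g * t = g * (g⁻¹ * t * g) := by rw [e3]
    _ = t * g := by group

theorem sect_pair {t u v : G} (ht : t ^ 2 = 1) (hu : u * u = 1) (hv : v * v = 1) (h : u * v ∈ sect t) :
    u ∈ centralizer ({t} : Set G) := by
  obtain ⟨n, hn, h1⟩ := sect_pow ht h
  have e1 := h1 1 odd_one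
  rw [mul_one] at e1
  have e2 : u⁻¹ * (u * v) * u⁻¹⁻¹ = (u * v)⁻¹ := by
    rw [inv_inv, mul_inv_rev, inv_eq_of_mul_eq_one_right hv, inv_eq_of_mul_eq_one_right hu, ← mul_assoc, hu,
      one_mul]
  have e3 : u⁻¹ * (u * v) ^ n * u⁻¹⁻¹ = ((u * v)⁻¹) ^ n := by rw [← conj_pow, e2]
  rw [inv_pow, e1, inv_inv, inv_eq_of_mul_eq_one_right (show t * t = 1 by rw [← pow_two]; exact ht),
    inv_eq_of_mul_eq_one_right hu] at e3
  rw [mem_centralizer_singleton_iff]
  calc u * t = u * t * (u * u) := by rw [hu, mul_one]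
    _ = (u * t * u) * u := by group
    _ = t * u := by rw [e3]

variable [IsSimpleGroup G] (hG : ¬ IsMulCommutative G) (S : Sylow 2 G)
  (hS : Cfsg.IsElementaryAbelian 2 (S : Subgroup G)) (hS8 : Nat.card ↥(S : Subgroup G) = 8)
include hG hS hS8

theorem relIndex_eq_seven (hC : ∀ t : G, orderOf t = 2 → Group.IsSolvable ↥(centralizer ({t} : Set G))) :
    (centralizer ((S : Subgroup G) : Set G)).relIndex (normalizer ((S : Subgroup G) : Set G)) = 7 := by
  classical
  haveI : Fact (Nat.Prime 2) := ⟨Nat.prime_two⟩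
  haveI : IsMulCommutative (S : Subgroup G) := hS.1
  haveI := Fintype.ofFinite G
  have hG' := commutator_eq_top hG
  refine (seven_or_three S hS hS8 hG').resolve_right fun h3 => ?_
  haveI : Nontrivial (S : Subgroup G) := Finite.one_lt_card_iff_nontrivial.1 (by omega)
  obtain ⟨⟨t, htS⟩, htne⟩ := exists_ne (1 : (S : Subgroup G))
  have ht1 : t ≠ 1 := fun e => htne (Subtype.ext e)
  obtain ⟨x, hxN, hxt, hxodd, hxnot, hx3, hxgen⟩ := h3 t htS ht1
  have ht2 : t ^ 2 = 1 := hS.2 t htS
  have htord : orderOf t = 2 := orderOf_eq_prime ht2 ht1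
  set C := centralizer ({t} : Set G) with hCdef
  haveI := hC t htord
  haveI := Fintype.ofFinite C
  have hSC : (S : Subgroup G) ≤ C := fun s hs => mem_centralizer_singleton_iff.2
    (congrArg Subtype.val (hS.1.is_comm.comm ⟨s, hs⟩ ⟨t, htS⟩))
  set S' : Sylow 2 C := S.subtype hSC with hS'def
  have memS' : ∀ c : C, c ∈ (S' : Subgroup C) ↔ (c : G) ∈ (S : Subgroup G) := fun c => Iff.rfl
  have memN : ∀ c : C, c ∈ normalizer ((S' : Subgroup C) : Set C) ↔
      (c : G) ∈ normalizer ((S : Subgroup G) : Set G) := by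
    intro c
    simp only [mem_normalizer_iff]
    constructor
    · intro hc g
      constructor
      · exact fun hg => (hc ⟨g, hSC hg⟩).1 hg
      · intro hg
        have hgC : g ∈ C := by
          have := mul_mem (mul_mem (inv_mem c.2) (hSC hg)) c.2
          simpa [mul_assoc] using this
        exact (hc ⟨g, hgC⟩).2 hg
    · exact fun hc g => hc g
  have memZ : ∀ c : C, c ∈ centralizer ((S' : Subgroup C) : Set C) ↔
      (c : G) ∈ centralizer ((S : Subgroup G) : Set G) := by
    intro c
    simp only [mem_centralizer_iff]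
    exact ⟨fun hc g hg => congrArg Subtype.val (hc ⟨g, hSC hg⟩ hg),
      fun hc g hg => Subtype.ext (hc g hg)⟩
  set z : C := ⟨t, mem_centralizer_singleton_iff.2 rfl⟩ with hzdef
  set x' : C := ⟨x, mem_centralizer_singleton_iff.2 hxt⟩ with hx'def
  have L : Loc z S' x' :=
    { solv := inferInstance
      comm := ⟨⟨fun a b => by
        have e := congrArg Subtype.val (hS.1.is_comm.comm (⟨_, a.2⟩ : (S : Subgroup G)) ⟨_, b.2⟩)
        exact Subtype.ext (Subtype.ext e)⟩⟩
      sq := fun s hs => Subtype.ext (by simpa using hS.2 (s : G) hs)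
      card := (Nat.card_congr (subgroupOfEquivOfLe hSC).toEquiv).trans hS8
      central := fun c => Subtype.ext (mem_centralizer_singleton_iff.1 c.2)
      z_mem := htS
      z_ne := fun e => ht1 (congrArg Subtype.val e)
      x_odd := by rw [← orderOf_coe]; exact hxodd
      x_norm := (memN x').2 hxN
      x_not := fun h => hxnot ((memZ x').1 h)
      x_cube := (memZ (x' ^ 3)).2 (by simpa using hx3)
      x_gen := fun y hy => by
        obtain ⟨j, hj⟩ := hxgen y ((memN y).1 hy) (mem_centralizer_singleton_iff.1 y.2)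
        exact ⟨j, (memZ _).2 (by simpa using hj)⟩ }
  obtain ⟨θ, hgen, hsupp, hconst, hnorm, hone, hsum, hpairs⟩ := L.exists_theta
  set O := pPrimeCore 2 C with hOdef
  have hOodd : Odd (Nat.card O) := L.odd_core
  have hO0 : (Nat.card O : ℂ) ≠ 0 := Nat.cast_ne_zero.2 Nat.card_pos.ne'
  have inS0 : ∀ i (c : C), θ i c ≠ 0 → (c : G) ∈ sect t := by
    intro i c hc
    have ho := hsupp i c hc
    rw [← orderOf_coe] at ho
    refine ⟨((z * c : C) : G), ho, mem_centralizer_singleton_iff.1 (z * c).2, ?_⟩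
    simp [hzdef, ← mul_assoc, ← pow_two, ht2]
  have hS0 : ∀ i (c : C), (c : G) ∉ sect t → θ i c = 0 := fun i c hc => by_contra fun h => hc (inS0 i c h)
  have hcl : ∀ i, IsClassFunction C (θ i) := fun i => Char.IsGeneralizedCharacter.isClassFunction (hgen i)
  let F : Fin 3 → G → ℂ := fun i => indFun C (θ i)
  have hFgen : ∀ i, IsGeneralizedCharacter G (F i) := fun i =>
    Char.isGeneralizedCharacter_indFun C (hgen i)
  choose V hV hVinner using fun i => Char.IsGeneralizedCharacter.exists_decomp (hFgen i)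
  have hres : ∀ i (χ : IrrCharacter G), classInner (θ i) (fun c : C => χ.1 c) = V i χ := fun i χ => by
    rw [← hVinner, Char.classInner_indFun C (θ i) (Char.IsCharacter.isClassFunction (Char.irr_isCharacter χ))]
  have hdot : ∀ i j, ∑ χ, V i χ * V j χ = if i = j then 4 else 2 := by
    intro i j
    have h := CharInt.classInner_indFun_ti (ψ := θ i) (θ := θ j) (sect_ti ht2) (hS0 i) (hcl j) (hS0 j)
    rw [hnorm, Char.classInner_eq_sum (Char.isClassFunction_indFun _ _)] at h
    have e : ∀ χ : IrrCharacter G, classInner (indFun C (θ i)) χ.1 * classInner χ.1 (indFun C (θ j)) =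
        ((V i χ * V j χ : ℤ) : ℂ) := fun χ => by
      rw [← Char.conj_classInner (indFun C (θ j)) χ.1, hVinner i χ, hVinner j χ]
      simp
    simp only [e, ← Int.cast_sum] at h
    split_ifs with hij
    · rw [if_pos hij] at h; exact_mod_cast h
    · rw [if_neg hij] at h; exact_mod_cast h
  have hVone : ∀ i, V i (Char.trivialChar G) = if i = 0 then 1 else 0 := by
    intro i
    have h := (hres i (Char.trivialChar G)).symm.trans (hone i)
    split_ifs with hi
    · rw [if_pos hi] at h; exact_mod_cast h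
    · rw [if_neg hi] at h; exact_mod_cast h
  have hzero : ∀ i, ∑ χ, V i χ * (Char.degree χ : ℤ) = 0 := by
    intro i
    have h : F i 1 = 0 := CharInt.indFun_eq_zero_of_support (hS0 i) fun g hg => by
      rw [mul_one, inv_mul_cancel] at hg
      obtain ⟨y, hy, -, e⟩ := hg
      rw [← inv_eq_of_mul_eq_one_right e.symm, orderOf_inv, htord] at hy
      exact absurd hy (by decide)
    rw [hV i] at h
    simp only [Finset.sum_apply, Pi.smul_apply, smul_eq_mul, Char.apply_one_eq_degree] at h
    exact_mod_cast h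
  obtain ⟨M, hM⟩ := ZStar.exists_isPModular_two
  haveI := hM.2.1
  have htpow : ∃ k : ℕ, orderOf t = 2 ^ k := ⟨1, by rw [htord, pow_one]⟩
  have hout : ∀ χ : IrrCharacter G, χ ∉ principalBlock M G → ∀ i, V i χ = 0 := by
    intro χ hχ i
    suffices hs : ∑ c : C, θ i c * conj (χ.1 c) = 0 by
      have h := hres i χ
      rw [classInner, hs, mul_zero] at h
      exact_mod_cast h.symm
    have key : ∀ c : C, θ i c ≠ 0 → ∑ o : O, χ.1 ((c * o : C) : G) = 0 := by
      intro c hc
      set y := z * c with hy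
      have hyodd : ¬ 2 ∣ orderOf y := fun h =>
        Nat.not_even_iff_odd.2 (hsupp i c hc) (even_iff_two_dvd.2 h)
      have h := (ZStar.sum_principal_blockCoeff hM.2.2 htpow χ y hyodd).2 hχ
      rw [finsum_eq_sum_of_fintype] at h
      simp only [blockCoeff_solvable hM, ite_mul, zero_mul, ← Finset.sum_filter, ← Finset.mul_sum,
        mul_eq_zero, inv_eq_zero] at h
      have h' := h.resolve_left hO0
      rw [Finset.sum_subtype (p := (· ∈ O)) _ (fun k => by rw [Finset.mem_filter]; exact and_iff_right (Finset.mem_univ k))] at h'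
      rw [← h']
      refine Fintype.sum_equiv
        { toFun := fun o : O => (⟨y * o * y⁻¹, (inferInstance : O.Normal).conj_mem _ o.2 y⟩ : O)
          invFun := fun o : O => (⟨y⁻¹ * o * y, by
            simpa using (inferInstance : O.Normal).conj_mem _ o.2 y⁻¹⟩ : O)
          left_inv := fun o => Subtype.ext (by simp [mul_assoc])
          right_inv := fun o => Subtype.ext (by simp [mul_assoc]) } _ _ fun o => ?_
      simp [hy, hzdef, mul_assoc]
      rw [← mul_assoc t t, ← pow_two, ht2, one_mul]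
    have h1 : (Nat.card O : ℂ) * ∑ c : C, θ i c * conj (χ.1 c) = 0 := by
      calc (Nat.card O : ℂ) * ∑ c : C, θ i c * conj (χ.1 c)
          = ∑ o : O, ∑ c : C, θ i (c * o) * conj (χ.1 ((c * o : C) : G)) := by
            rw [Finset.sum_congr rfl (fun (o : O) _ => Fintype.sum_equiv (Equiv.mulRight (o : C))
              (fun c => θ i (c * o) * conj (χ.1 ((c * o : C) : G))) (fun c => θ i c * conj (χ.1 c))
              (fun c => rfl)), Finset.sum_const, Finset.card_univ, nsmul_eq_mul, Nat.card_eq_fintype_card]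
        _ = ∑ c : C, θ i c * conj (∑ o : O, χ.1 ((c * o : C) : G)) := by
            rw [Finset.sum_comm]
            simp only [map_sum, Finset.mul_sum]
            exact Finset.sum_congr rfl fun c _ => Finset.sum_congr rfl fun o _ => by rw [hconst i c o o.2]
        _ = 0 := Finset.sum_eq_zero fun c _ => by
            by_cases hc : θ i c = 0
            · rw [hc, zero_mul]
            · rw [key c hc, map_zero, mul_zero]
    exact (mul_eq_zero.1 h1).resolve_left hO0
  have hconjT : ∀ u : G, orderOf u = 2 → ∀ χ : IrrCharacter G, χ.1 u = χ.1 t := fun u hu χ =>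
    Char.IsClassFunction.apply_of_isConj (Char.IsCharacter.isClassFunction (Char.irr_isCharacter χ))
      (isConj_involution S hS hS8 hG' hu htord)
  have hin : ∀ χ : IrrCharacter G, χ ∈ principalBlock M G →
      ((V 0 χ + V 1 χ + V 2 χ : ℤ) : ℂ) = χ.1 t := by
    intro χ hχ
    have h1 : ∑ c : C, (∑ i, θ i c) * conj (χ.1 c) =
        ∑ c : C, if z * c ∈ O then 24 * χ.1 t else 0 := by
      refine Finset.sum_congr rfl fun c _ => ?_
      rcases hsum c with ⟨e, hc⟩ | ⟨e, hc⟩
      · rw [e, if_pos hc]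
        have hc' : χ.1 (c : G) = χ.1 t := by
          have h := ZStar.apply_mul_pPrimeCore hM htpow
            (v := ((z * c : C) : G)) (Subgroup.mem_map_of_mem _ hc) hχ
          rw [← h]
          simp [hzdef, ← mul_assoc, ← pow_two, ht2]
        rw [hc', Char.IsCharacter.conj_apply (Char.irr_isCharacter χ),
          inv_eq_of_mul_eq_one_right (show t * t = 1 by rw [← pow_two]; exact ht2)]
      · rw [e, if_neg hc, zero_mul]
    have h2 : classInner (fun c => ∑ i, θ i c) (fun c : C => χ.1 c) = χ.1 t := by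
      rw [classInner, h1, ← Finset.sum_filter, Finset.sum_const, nsmul_eq_mul]
      have hcard : (Finset.univ.filter fun c : C => z * c ∈ O).card = Nat.card O := by
        rw [← Fintype.card_subtype, ← Nat.card_eq_fintype_card]
        exact Nat.card_congr ((Equiv.mulLeft z).subtypeEquiv fun c => Iff.rfl)
      rw [hcard, L.card_eq]
      push_cast
      field_simp
      ring
    rw [← h2, show (fun c => ∑ i, θ i c) = ∑ i, θ i from funext fun c => (Finset.sum_apply c _ _).symm,
      Char.classInner_sum_left, Fin.sum_univ_three, hres, hres, hres]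
    push_cast
    ring
  have hV0B : ∀ i χ, V i χ ≠ 0 → χ ∈ principalBlock M G := fun i χ h => by_contra fun h' => h (hout χ h' i)
  haveI := Fintype.ofFinite (S : Subgroup G)
  have hcong : ∀ χ, V 0 χ ≠ 0 → ∃ n : ℕ,
      (Char.degree χ : ℤ) + 7 * (V 0 χ + V 1 χ + V 2 χ) = 8 * n := by
    intro χ h0
    have hχ := hin χ (hV0B 0 χ h0)
    obtain ⟨n, hn⟩ := Char.IsCharacter.exists_nat_classInner
      (Char.IsCharacter.restrict (Char.irr_isCharacter χ) (S : Subgroup G)) Char.isCharacter_one
    refine ⟨n, ?_⟩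
    simp only [classInner, map_one, mul_one] at hn
    rw [SmallSimple.sum_over_nontrivial (fun s : (S : Subgroup G) => χ.1 s) (χ.1 t) (fun s hs =>
      hconjT s (orderOf_eq_prime (hS.2 s s.2) (fun e => hs (Subtype.ext e))) χ), ← Nat.card_eq_fintype_card,
      hS8, OneMemClass.coe_one, Char.apply_one_eq_degree, ← hχ] at hn
    have h8 : ((((Char.degree χ : ℤ) + 7 * (V 0 χ + V 1 χ + V 2 χ) : ℤ)) : ℂ) = ((8 * n : ℤ) : ℂ) := by
      push_cast at hn ⊢
      linear_combination 8 * hn
    exact_mod_cast h8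
  have hne : ∀ χ, χ ≠ Char.trivialChar G → V 0 χ ≠ 0 →
      (Char.degree χ : ℤ) ≠ V 0 χ + V 1 χ + V 2 χ := by
    intro χ hχ h0 e
    have h1 : χ.1 t = χ.1 1 := by
      rw [← hin χ (hV0B 0 χ h0), ← e, Char.apply_one_eq_degree]
      simp
    set K := CharInt.charKernel (Char.irr_isCharacter χ)
    haveI : K.Normal := CharInt.charKernel_normal _
    rcases (inferInstance : K.Normal).eq_bot_or_eq_top with h | h
    · exact ht1 (mem_bot.1 (h ▸ ((CharInt.mem_charKernel _).2 h1) : t ∈ (⊥ : Subgroup G)))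
    · have h2 := Char.sum_apply_eq_zero hχ
      rw [Finset.sum_congr rfl fun g _ => (CharInt.mem_charKernel _).1 (h ▸ mem_top g : g ∈ K),
        Finset.sum_const, Finset.card_univ, nsmul_eq_mul, mul_eq_zero] at h2
      rcases h2 with h2 | h2
      · exact Fintype.card_ne_zero (α := G) (by exact_mod_cast h2)
      · exact Char.IsIrrCharacter.apply_one_ne_zero χ.2 h2
  have hdeg : ∀ χ, χ ≠ Char.trivialChar G → 1 < Char.degree χ := by
    intro χ hχ
    rcases Nat.lt_or_ge 1 (Char.degree χ) with h | h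
    · exact h
    · exfalso
      have h1 : Char.degree χ = 1 := le_antisymm h (Char.degree_pos χ)
      exact hχ (SmallSimple.eq_trivialChar_of_degree_one hG χ (by rw [Char.apply_one_eq_degree, h1, Nat.cast_one]))
  -- the class equation
  have hpair : Exceptional.pairInv (F 0) = Exceptional.pairInv (F 1) := by
    refine Finset.sum_congr rfl fun u hu => Finset.sum_congr rfl fun v hv => ?_
    have hu' := (Exceptional.mem_invols.1 hu).1
    have hv' := (Exceptional.mem_invols.1 hv).1
    show indFun C (θ 0) (u * v) = indFun C (θ 1) (u * v)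
    simp only [indFun]
    congr 1
    refine Finset.sum_congr rfl fun g _ => ?_
    by_cases hm : g⁻¹ * (u * v) * g ∈ C
    · rw [Char.extendByZero_of_mem _ _ hm, Char.extendByZero_of_mem _ _ hm]
      by_cases hs : g⁻¹ * (u * v) * g ∈ sect t
      · set a := g⁻¹ * u * g with ha
        set b := g⁻¹ * v * g with hb
        have hab : g⁻¹ * (u * v) * g = a * b := by rw [ha, hb]; group
        have haa : a * a = 1 := by
          rw [ha, show g⁻¹ * u * g * (g⁻¹ * u * g) = g⁻¹ * (u * u) * g by group, hu']; group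
        have hbb : b * b = 1 := by
          rw [hb, show g⁻¹ * v * g * (g⁻¹ * v * g) = g⁻¹ * (v * v) * g by group, hv']; group
        have haC := sect_pair ht2 haa hbb (hab ▸ hs)
        have hbC : b ∈ C := (C.mul_mem_cancel_left haC).1 (hab ▸ hm)
        have e : (⟨g⁻¹ * (u * v) * g, hm⟩ : C) = ⟨a, haC⟩ * ⟨b, hbC⟩ := Subtype.ext hab
        rw [e]
        exact hpairs 0 1 _ _ (Subtype.ext (by rw [pow_two]; exact haa)) (Subtype.ext (by rw [pow_two]; exact hbb))
      · rw [hS0 0 ⟨_, hm⟩ hs, hS0 1 ⟨_, hm⟩ hs]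
    · rw [Char.extendByZero_of_notMem _ _ hm, Char.extendByZero_of_notMem _ _ hm]
  set N := (Exceptional.invols G).card with hNdef
  have hN : (N : ℂ) ≠ 0 := Nat.cast_ne_zero.2 (Finset.card_ne_zero.2
    ⟨t, Exceptional.mem_invols.2 ⟨by rw [← pow_two]; exact ht2, ht1⟩⟩)
  have hpi : ∀ i, Exceptional.pairInv (F i) =
      (N : ℂ) ^ 2 * ((∑ χ, (V i χ : ℚ) * ((V 0 χ + V 1 χ + V 2 χ : ℤ) : ℚ) ^ 2 / Char.degree χ : ℚ) : ℂ) := by
    intro i
    have h1 : Exceptional.pairInv (F i) = ∑ χ : IrrCharacter G, (V i χ : ℂ) * Exceptional.pairInv χ.1 := by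
      rw [hV i]
      simp only [Exceptional.pairInv, Finset.sum_apply, Pi.smul_apply, smul_eq_mul, Finset.mul_sum]
      exact (Finset.sum_congr rfl fun u _ => Finset.sum_comm).trans Finset.sum_comm
    rw [h1, Rat.cast_sum, Finset.mul_sum]
    refine Finset.sum_congr rfl fun χ _ => ?_
    by_cases h0 : V i χ = 0
    · simp [h0]
    · have hsum : Exceptional.sumInv χ.1 = (N : ℂ) * χ.1 t := by
        rw [Exceptional.sumInv, Finset.sum_congr rfl fun u hu => hconjT u ?_ χ, Finset.sum_const,
          nsmul_eq_mul]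
        exact orderOf_eq_prime (by rw [pow_two]; exact (Exceptional.mem_invols.1 hu).1)
          (Exceptional.mem_invols.1 hu).2
      have h2 := Exceptional.apply_one_mul_pairInv χ.2
      rw [hsum, Char.apply_one_eq_degree, ← hin χ (hV0B i χ h0)] at h2
      have hd : (Char.degree χ : ℂ) ≠ 0 := Nat.cast_ne_zero.2 (Char.degree_pos χ).ne'
      push_cast at h2 ⊢
      field_simp
      linear_combination h2
  refine false_of_vectors V (Char.trivialChar G) Char.degree hdot (by simp [hVone]) (by simp [hVone])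
    (by simp [hVone]) ?_ hdeg hzero hcong hne ?_
  · have h := Char.apply_one_eq_degree (Char.trivialChar G)
    rw [Char.trivialChar_apply] at h
    exact_mod_cast h.symm
  · have h := (hpi 0).symm.trans (hpair.trans (hpi 1))
    exact_mod_cast mul_left_cancel₀ (pow_ne_zero 2 hN) h

end Cfsg.Agent.EightSylow
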