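import Cfsg.Prelude.Def_Transfer
import Mathlib

/-!
An elementary abelian Sylow 2-subgroup of order eight in a simple group: the automizer.
-/

set_option autoImplicit false
set_option linter.style.haveILetI false

namespace Cfsg.Agent.EightSylow

open Subgroup
open scoped commutatorElement

variable {G : Type*} [Group G] [Finite G]

/-- A homomorphism of an abelian Sylow subgroup invariant under the normalizer is trivial in a perfect group. -/
theorem hom_eq_one_of_perfect {p : ℕ} [Fact p.Prime] (P : Sylow p G) [IsMulCommutative P]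
    (hG : _root_.commutator G = ⊤) {A : Type*} [CommGroup A] (φ : (P : Subgroup G) →* A)
    (hφ : ∀ n ∈ normalizer ((P : Subgroup G) : Set G), ∀ x y : (P : Subgroup G),
      n * (x : G) * n⁻¹ = y → φ x = φ y) : φ = 1 := by
  have h1 := Subgroup.commutator_inf_eq_focalSubgroup P
  rw [hG, top_inf_eq] at h1
  have hle : (P : Subgroup G).focalSubgroup ≤ φ.ker.map (P : Subgroup G).subtype := by
    rw [focalSubgroup_def, closure_le]
    rintro g ⟨hg, x, hx, u, rfl⟩
    refine ⟨⟨_, hg⟩, ?_, rfl⟩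
    have hu : u * x⁻¹ * u⁻¹ ∈ (P : Subgroup G) := by
      have : u * x⁻¹ * u⁻¹ = x⁻¹ * ⁅x, u⁆ := by rw [commutatorElement_def]; group
      rw [this]
      exact mul_mem (inv_mem hx) hg
    obtain ⟨n, hn, hn'⟩ := Sylow.conj_eq_normalizer_conj_of_mem P x⁻¹ u⁻¹ (inv_mem hx) (by rwa [inv_inv])
    rw [inv_inv] at hn'
    have e : (⟨⁅x, u⁆, hg⟩ : (P : Subgroup G)) = ⟨x, hx⟩ * ⟨u * x⁻¹ * u⁻¹, hu⟩ :=
      Subtype.ext (by show ⁅x, u⁆ = _; rw [commutatorElement_def]; simp [mul_assoc])
    rw [SetLike.mem_coe, MonoidHom.mem_ker, e, map_mul,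
      ← hφ n⁻¹ (inv_mem hn) ⟨x⁻¹, inv_mem hx⟩ ⟨u * x⁻¹ * u⁻¹, hu⟩ (by rw [inv_inv]; exact hn'.symm)]
    rw [← map_mul]
    exact (congrArg φ (Subtype.ext (by simp))).trans (map_one φ)
  refine MonoidHom.ext fun x => ?_
  obtain ⟨y, hy, hyx⟩ := hle (h1 ▸ x.2 : (x : G) ∈ (P : Subgroup G).focalSubgroup)
  rw [← Subtype.ext hyx]
  exact hy

theorem commutator_eq_top [IsSimpleGroup G] (hG : ¬ IsMulCommutative G) : _root_.commutator G = ⊤ := by
  refine (IsSimpleGroup.eq_bot_or_eq_top_of_normal (_root_.commutator G) inferInstance).resolve_left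
    fun h => hG ⟨⟨fun a b => ?_⟩⟩
  have := commutator_mem_commutator (mem_top a) (mem_top b)
  rw [← commutator_def, h, mem_bot, commutatorElement_eq_one_iff_mul_comm] at this
  exact this

section

variable (S : Sylow 2 G)

/-- The action of the normalizer. -/
noncomputable abbrev nhom : normalizer ((S : Subgroup G) : Set G) →* MulAut (S : Subgroup G) :=
  (S : Subgroup G).normalizerMonoidHom

theorem nhom_apply (n : normalizer ((S : Subgroup G) : Set G)) (x : (S : Subgroup G)) :
    ((nhom S n x : (S : Subgroup G)) : G) = n * x * (n : G)⁻¹ := rfl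

theorem nhom_ker (n : normalizer ((S : Subgroup G) : Set G)) :
    nhom S n = 1 ↔ (n : G) ∈ centralizer ((S : Subgroup G) : Set G) := by
  rw [← MonoidHom.mem_ker, normalizerMonoidHom_ker, mem_subgroupOf]

theorem card_range_nhom :
    Nat.card (nhom S).range =
      (centralizer ((S : Subgroup G) : Set G)).relIndex (normalizer ((S : Subgroup G) : Set G)) := by
  rw [← Subgroup.index_ker, normalizerMonoidHom_ker]
  rfl

theorem odd_card_range (hc : IsMulCommutative (S : Subgroup G)) : Odd (Nat.card (nhom S).range) := by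
  rw [card_range_nhom]
  have hSK : (S : Subgroup G) ≤ centralizer ((S : Subgroup G) : Set G) := fun x hx =>
    mem_centralizer_iff.2 fun y hy => congrArg Subtype.val (hc.is_comm.comm ⟨y, hy⟩ ⟨x, hx⟩)
  refine Nat.not_even_iff_odd.1 fun he => S.not_dvd_index ?_
  exact (even_iff_two_dvd.1 he).trans
    ((relIndex_dvd_of_le_left _ hSK).trans (relIndex_dvd_index_of_le le_normalizer))

variable (hS : Cfsg.IsElementaryAbelian 2 (S : Subgroup G)) (hS8 : Nat.card ↥(S : Subgroup G) = 8)
include hS hS8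

theorem orbit_seven (a : MulAut (S : Subgroup G)) (ha : orderOf a = 7) {s u : (S : Subgroup G)} (hs : s ≠ 1)
    (hu : u ≠ 1) : ∃ k : ℕ, (a ^ k) s = u := by
  classical
  have hF : ∀ x, a x = x → x = 1 := by
    intro x hx
    let F : Subgroup (S : Subgroup G) := a.toMonoidHom.eqLocus (MonoidHom.id _)
    have hP : IsPGroup 7 (zpowers a) := IsPGroup.of_card (n := 1) (by rw [Nat.card_zpowers, ha, pow_one])
    haveI : Fact (Nat.Prime 7) := ⟨by norm_num⟩
    have hmod := hP.card_modEq_card_fixedPoints (S : Subgroup G)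
    have hfix : Nat.card (MulAction.fixedPoints (zpowers a) (S : Subgroup G)) = Nat.card F := by
      refine Nat.card_congr (Equiv.setCongr (Set.ext fun y => ⟨fun hy => hy ⟨a, mem_zpowers a⟩, fun hy b => ?_⟩))
      have hb : b.1 ∈ MulAction.stabilizer (MulAut (S : Subgroup G)) y :=
        (zpowers_le.2 (show a ∈ MulAction.stabilizer (MulAut (S : Subgroup G)) y from hy)) b.2
      exact hb
    rw [hfix, hS8] at hmod
    have hd : Nat.card F ∣ 2 ^ 3 := by
      have := F.card_subgroup_dvd_card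
      rwa [hS8] at this
    obtain ⟨j, hj, e⟩ := (Nat.dvd_prime_pow Nat.prime_two).1 hd
    rw [e] at hmod
    have : j = 0 ∨ j = 3 := by
      interval_cases j <;> simp [Nat.ModEq] at hmod ⊢
    rcases this with rfl | rfl
    · exact mem_bot.1 ((card_eq_one.1 e) ▸ (hx : x ∈ F))
    · exfalso
      have htop : F = ⊤ := eq_top_of_card_eq F (by rw [e, hS8]; norm_num)
      have : a = 1 := MulEquiv.ext fun y => (htop ▸ mem_top y : y ∈ F)
      rw [this, orderOf_one] at ha
      norm_num at ha
  have hinj : ∀ k l : ℕ, k < 7 → l < 7 → (a ^ k) s = (a ^ l) s → k = l := by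
    have key : ∀ k l : ℕ, k ≤ l → l < 7 → (a ^ k) s = (a ^ l) s → k = l := by
      intro k l hkl hl e
      by_contra hne
      have e2 : (a ^ (l - k)) s = s := by
        refine (a ^ k).injective ?_
        rw [← MulAut.mul_apply, ← pow_add, Nat.add_sub_cancel' hkl]
        exact e.symm
      obtain ⟨m, hm⟩ : ∃ m, m * (l - k) % 7 = 1 := by
        have : 0 < l - k ∧ l - k < 7 := by omega
        obtain ⟨h1, h2⟩ := this
        interval_cases (l - k)
        exacts [⟨1, rfl⟩, ⟨4, rfl⟩, ⟨5, rfl⟩, ⟨2, rfl⟩, ⟨3, rfl⟩, ⟨6, rfl⟩]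
      have e3 : ∀ i : ℕ, ((a ^ (l - k)) ^ i) s = s := by
        intro i
        induction i with
        | zero => simp
        | succ i ih => rw [pow_succ, MulAut.mul_apply, e2, ih]
      have e4 := e3 m
      rw [← pow_mul, mul_comm, ← pow_mod_orderOf, ha, hm, pow_one] at e4
      exact hs (hF s e4)
    intro k l hk hl e
    rcases le_total k l with h | h
    · exact key k l h hl e
    · exact (key l k h hk e.symm).symm
  haveI := Fintype.ofFinite (S : Subgroup G)
  have himg : (Finset.range 7).image (fun k => (a ^ k) s) = Finset.univ.erase 1 := by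
    refine Finset.eq_of_subset_of_card_le (fun x hx => ?_) ?_
    · obtain ⟨k, -, rfl⟩ := Finset.mem_image.1 hx
      refine Finset.mem_erase.2 ⟨fun h => hs ((a ^ k).map_eq_one_iff.1 h), Finset.mem_univ _⟩
    · rw [Finset.card_image_of_injOn (fun k hk l hl e => hinj k l (Finset.mem_range.1 hk)
        (Finset.mem_range.1 hl) e), Finset.card_erase_of_mem (Finset.mem_univ _), Finset.card_univ,
        ← Nat.card_eq_fintype_card, hS8, Finset.card_range]
  have := (Finset.ext_iff.1 himg u).2 (Finset.mem_erase.2 ⟨hu, Finset.mem_univ _⟩)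
  obtain ⟨k, -, hk⟩ := Finset.mem_image.1 this
  exact ⟨k, hk⟩

theorem exists_fixed_of_not_dvd (A : Subgroup (MulAut (S : Subgroup G))) (hodd : Odd (Nat.card A))
    (h7 : ¬ 7 ∣ Nat.card A) : ∃ t : (S : Subgroup G), t ≠ 1 ∧ ∀ a ∈ A, a t = t := by
  classical
  haveI := Fintype.ofFinite (S : Subgroup G)
  by_contra hc
  push Not at hc
  let orb : ↥(S : Subgroup G) → Finset (S : Subgroup G) := fun s =>
    Finset.univ.filter fun u => u ∈ MulAction.orbit A s
  have horb : ∀ s u, u ∈ orb s ↔ u ∈ MulAction.orbit A s := fun s u => by simp [orb]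
  have hdvd : ∀ s, (orb s).card ∣ Nat.card A := by
    intro s
    have h := (MulAction.stabilizer A s).index_dvd_card
    have e : (orb s).card = Nat.card (MulAction.orbit A s) := by
      rw [Nat.card_eq_fintype_card]
      exact (Fintype.card_of_finset' (orb s) fun u => horb s u).symm
    rwa [e, Nat.card_congr (MulAction.orbitEquivQuotientStabilizer A s)]
  have hsize : ∀ s, s ≠ 1 → (orb s).card = 3 ∨ (orb s).card = 5 := by
    intro s hs
    obtain ⟨a, ha, hne⟩ := hc s hs
    have hsub : orb s ⊆ Finset.univ.erase 1 := fun u hu => by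
      obtain ⟨⟨b, hb⟩, rfl⟩ := (horb s u).1 hu
      exact Finset.mem_erase.2 ⟨fun h => hs (b.map_eq_one_iff.1 h), Finset.mem_univ _⟩
    have h1 : 1 < (orb s).card := Finset.one_lt_card.2
      ⟨s, (horb s s).2 (MulAction.mem_orbit_self s), a s, (horb s _).2 ⟨⟨a, ha⟩, rfl⟩, hne.symm⟩
    have h2 := Finset.card_le_card hsub
    rw [Finset.card_erase_of_mem (Finset.mem_univ _), Finset.card_univ, ← Nat.card_eq_fintype_card, hS8] at h2
    have h3 : Odd (orb s).card := hodd.of_dvd_nat (hdvd s)
    have h4 : (orb s).card ≠ 7 := fun e => h7 (e ▸ hdvd s)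
    obtain ⟨r, hr⟩ := h3
    omega
  have hdisj : ∀ s u, u ∉ orb s → Disjoint (orb s) (orb u) := by
    intro s u hu
    refine Finset.disjoint_left.2 fun x hx hx' => hu ?_
    rw [horb] at hx hx' ⊢
    rw [← MulAction.orbit_eq_iff.2 hx, MulAction.orbit_eq_iff.2 hx']
    exact MulAction.mem_orbit_self u
  have hone : ∀ s, s ≠ 1 → (1 : (S : Subgroup G)) ∉ orb s := fun s hs h => by
    obtain ⟨⟨b, hb⟩, e⟩ := (horb s 1).1 h
    exact hs (b.map_eq_one_iff.1 e)
  have hex : ∀ U : Finset (S : Subgroup G), U.card < 7 → ∃ u, u ≠ 1 ∧ u ∉ U := fun U hU => by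
    obtain ⟨u, hu, hu'⟩ := Finset.exists_mem_notMem_of_card_lt_card (s := U) (t := Finset.univ.erase 1)
      (by rw [Finset.card_erase_of_mem (Finset.mem_univ _), Finset.card_univ, ← Nat.card_eq_fintype_card, hS8]
          omega)
    exact ⟨u, (Finset.mem_erase.1 hu).1, hu'⟩
  have htot : ∀ U : Finset (S : Subgroup G), 1 ∉ U → U.card ≤ 7 := fun U hU => by
    have := Finset.card_le_card (show U ⊆ Finset.univ.erase 1 from fun u hu =>
      Finset.mem_erase.2 ⟨fun e => hU (e ▸ hu), Finset.mem_univ _⟩)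
    rwa [Finset.card_erase_of_mem (Finset.mem_univ _), Finset.card_univ, ← Nat.card_eq_fintype_card, hS8] at this
  obtain ⟨s1, hs1, -⟩ := hex ∅ (by simp)
  have c1 := hsize s1 hs1
  obtain ⟨s2, hs2, hn2⟩ := hex (orb s1) (by omega)
  have c2 := hsize s2 hs2
  have d12 := hdisj s1 s2 hn2
  have t2 := htot (orb s1 ∪ orb s2) (by simp [hone s1 hs1, hone s2 hs2])
  rw [Finset.card_union_of_disjoint d12] at t2
  obtain ⟨s3, hs3, hn3⟩ := hex (orb s1 ∪ orb s2) (by rw [Finset.card_union_of_disjoint d12]; omega)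
  have c3 := hsize s3 hs3
  rw [Finset.mem_union, not_or] at hn3
  have t3 := htot (orb s1 ∪ orb s2 ∪ orb s3) (by simp [hone s1 hs1, hone s2 hs2, hone s3 hs3])
  rw [Finset.card_union_of_disjoint (Finset.disjoint_union_left.2 ⟨hdisj s1 s3 hn3.1, hdisj s2 s3 hn3.2⟩),
    Finset.card_union_of_disjoint d12] at t3
  omega

variable (hG : _root_.commutator G = ⊤)
include hG

theorem seven_dvd_card_range : 7 ∣ Nat.card (nhom S).range := by
  classical
  haveI : IsMulCommutative S := hS.1
  haveI := Fintype.ofFinite (nhom S).range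
  by_contra h7
  have hodd := odd_card_range S hS.1
  obtain ⟨t, ht, hfix⟩ := exists_fixed_of_not_dvd S hS hS8 _ hodd h7
  letI : CommGroup (S : Subgroup G) := { mul_comm := fun a b => hS.1.is_comm.comm a b }
  let φ : (S : Subgroup G) →* (S : Subgroup G) :=
    { toFun := fun x => ∏ a : (nhom S).range, (a : MulAut (S : Subgroup G)) x
      map_one' := Finset.prod_eq_one fun a _ => map_one _
      map_mul' := fun x y => by rw [← Finset.prod_mul_distrib]; exact Finset.prod_congr rfl fun a _ => map_mul _ x y }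
  have hφ : φ = 1 := by
    refine hom_eq_one_of_perfect S hG φ fun n hn x y e => ?_
    have ey : nhom S ⟨n, hn⟩ x = y := Subtype.ext e
    rw [← ey]
    show ∏ a : (nhom S).range, (a : MulAut (S : Subgroup G)) x =
      ∏ a : (nhom S).range, (a : MulAut (S : Subgroup G)) (nhom S ⟨n, hn⟩ x)
    exact (Fintype.prod_equiv (Equiv.mulRight (⟨nhom S ⟨n, hn⟩, ⟨n, hn⟩, rfl⟩ : (nhom S).range))
      (fun a => (a : MulAut (S : Subgroup G)) (nhom S ⟨n, hn⟩ x)) _ fun a => rfl).symm
  have h1 : φ t = t := by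
    show ∏ a : (nhom S).range, (a : MulAut (S : Subgroup G)) t = t
    rw [Finset.prod_congr rfl (g := fun _ => t) fun (a : (nhom S).range) _ => hfix _ a.2, Finset.prod_const, Finset.card_univ,
      ← Nat.card_eq_fintype_card]
    obtain ⟨r, hr⟩ := hodd
    rw [hr, pow_succ, pow_mul, show t ^ 2 = 1 from Subtype.ext (hS.2 t t.2), one_pow, one_mul]
  rw [hφ] at h1
  exact ht h1.symm

/-- All involutions are conjugate, by elements of the normalizer inside the Sylow subgroup. -/
theorem transitive {s u : (S : Subgroup G)} (hs : s ≠ 1) (hu : u ≠ 1) :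
    ∃ n : normalizer ((S : Subgroup G) : Set G), nhom S n s = u := by
  obtain ⟨⟨a, ha⟩, hao⟩ := (by
    haveI : Fact (Nat.Prime 7) := ⟨by norm_num⟩
    exact exists_prime_orderOf_dvd_card' 7 (seven_dvd_card_range S hS hS8 hG) :
      ∃ a : (nhom S).range, orderOf a = 7)
  rw [orderOf_mk] at hao
  obtain ⟨k, hk⟩ := orbit_seven S hS hS8 a hao hs hu
  obtain ⟨n, hn⟩ := pow_mem ha k
  exact ⟨n, by rw [hn, hk]⟩

theorem isConj_involution {u v : G} (hu : orderOf u = 2) (hv : orderOf v = 2) : IsConj u v := by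
  have into : ∀ w : G, orderOf w = 2 → ∃ s : (S : Subgroup G), s ≠ 1 ∧ IsConj w (s : G) := by
    intro w hw
    obtain ⟨Q, hQ⟩ := (IsPGroup.of_card (p := 2) (n := 1) (G := zpowers w)
      (by rw [Nat.card_zpowers, hw, pow_one])).exists_le_sylow
    obtain ⟨g, hg⟩ := MulAction.exists_smul_eq G Q S
    have hmem : g * w * g⁻¹ ∈ (S : Subgroup G) := by
      rw [← hg, Sylow.coe_subgroup_smul, mem_pointwise_smul_iff_inv_smul_mem]
      simpa [MulAut.smul_def, mul_assoc] using hQ (mem_zpowers w)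
    refine ⟨⟨_, hmem⟩, fun h => ?_, isConj_iff.2 ⟨g, rfl⟩⟩
    have := congrArg Subtype.val h
    simp only [OneMemClass.coe_one, conj_eq_one_iff] at this
    rw [this, orderOf_one] at hw
    norm_num at hw
  obtain ⟨s, hs, hs'⟩ := into u hu
  obtain ⟨r, hr, hr'⟩ := into v hv
  obtain ⟨n, hn⟩ := transitive S hS hS8 hG hs hr
  exact hs'.trans ((isConj_iff.2 ⟨(n : G), congrArg Subtype.val hn⟩).trans hr'.symm)

/-- Either the automizer has order seven, or each involution has an element of order three in its automizer. -/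
theorem seven_or_three :
    (centralizer ((S : Subgroup G) : Set G)).relIndex (normalizer ((S : Subgroup G) : Set G)) = 7 ∨
      ∀ t ∈ (S : Subgroup G), t ≠ 1 → ∃ x ∈ normalizer ((S : Subgroup G) : Set G), x * t = t * x ∧
        Odd (orderOf x) ∧ x ∉ centralizer ((S : Subgroup G) : Set G) ∧
        x ^ 3 ∈ centralizer ((S : Subgroup G) : Set G) ∧
        ∀ y ∈ normalizer ((S : Subgroup G) : Set G), y * t = t * y →
          ∃ j : ℕ, y * (x ^ j)⁻¹ ∈ centralizer ((S : Subgroup G) : Set G) := by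
  classical
  haveI : IsMulCommutative (S : Subgroup G) := hS.1
  haveI := Fintype.ofFinite (S : Subgroup G)
  rw [or_iff_not_imp_left]
  intro h7 t htS ht
  rw [← card_range_nhom] at h7
  set t' : (S : Subgroup G) := ⟨t, htS⟩
  have ht' : t' ≠ 1 := fun h => ht (congrArg Subtype.val h)
  let A := (nhom S).range
  let At := MulAction.stabilizer A t'
  have horb : Nat.card (MulAction.orbit A t') = 7 := by
    have e : MulAction.orbit A t' = {u : (S : Subgroup G) | u ≠ 1} := by
      ext u
      refine ⟨?_, fun hu => ?_⟩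
      · rintro ⟨⟨b, hb⟩, rfl⟩ h
        exact ht' (b.map_eq_one_iff.1 h)
      · obtain ⟨n, hn⟩ := transitive S hS hS8 hG ht' hu
        exact ⟨⟨nhom S n, n, rfl⟩, hn⟩
    rw [e, Nat.card_coe_set_eq, show {u : (S : Subgroup G) | u ≠ 1} = ({1} : Set (S : Subgroup G))ᶜ from rfl,
      Set.ncard_compl, Set.ncard_singleton, hS8]
  have hcard : Nat.card A = 7 * Nat.card At := by
    rw [← horb, Nat.card_congr (MulAction.orbitEquivQuotientStabilizer A t'), ← Subgroup.index,
      Subgroup.index_mul_card]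
  have hoddt : Odd (Nat.card At) := (odd_card_range S hS.1).of_dvd_nat ⟨7, by rw [hcard, mul_comm]⟩
  -- the faithful action on the quotient
  letI : CommGroup (S : Subgroup G) := { mul_comm := fun a b => hS.1.is_comm.comm a b }
  let T := zpowers t'
  have hT : Nat.card T = 2 := by
    rw [Nat.card_zpowers]
    exact orderOf_eq_prime (Subtype.ext (hS.2 t htS)) ht'
  have hTm : ∀ w ∈ T, w = 1 ∨ w = t' := by
    intro w hw
    obtain ⟨k, rfl⟩ := mem_zpowers_iff.1 hw
    have h2 : t' ^ (2 : ℤ) = 1 := Subtype.ext (by simpa using hS.2 t htS)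
    rcases Int.emod_two_eq k with e | e
    · left; rw [← Int.mul_ediv_add_emod k 2, e, add_zero, zpow_mul, h2, one_zpow]
    · right; rw [← Int.mul_ediv_add_emod k 2, e, zpow_add, zpow_mul, h2, one_zpow, one_mul, zpow_one]
  have hfix : ∀ b : At, ((b : A) : MulAut (S : Subgroup G)) t' = t' := fun b => b.2
  have hmap : ∀ b : At, T ≤ T.comap ((b : A) : MulAut (S : Subgroup G)).toMonoidHom := fun b => by
    refine zpowers_le.2 ?_
    show ((b : A) : MulAut (S : Subgroup G)) t' ∈ T
    rw [hfix]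
    exact mem_zpowers _
  let act : At → ((S : Subgroup G) ⧸ T →* (S : Subgroup G) ⧸ T) := fun b =>
    QuotientGroup.map T T _ (hmap b)
  have hact : ∀ (b c : At) q, act (b * c) q = act b (act c q) := fun b c q => by
    obtain ⟨w, rfl⟩ := QuotientGroup.mk_surjective q
    rfl
  have hact1 : ∀ q, act 1 q = q := fun q => by
    obtain ⟨w, rfl⟩ := QuotientGroup.mk_surjective q
    rfl
  let π : At →* Equiv.Perm ((S : Subgroup G) ⧸ T) :=
    { toFun := fun b =>
        { toFun := act b, invFun := act b⁻¹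
          left_inv := fun q => by rw [← hact, inv_mul_cancel, hact1]
          right_inv := fun q => by rw [← hact, mul_inv_cancel, hact1] }
      map_one' := Equiv.ext hact1
      map_mul' := fun b c => Equiv.ext (hact b c) }
  have hinj : Function.Injective π := by
    rw [injective_iff_map_eq_one]
    intro b hb
    have hb2 : ∀ w, ((b : A) : MulAut (S : Subgroup G)) (((b : A) : MulAut (S : Subgroup G)) w) = w := by
      intro w
      have h : (((b : A) : MulAut (S : Subgroup G)) w)⁻¹ * w ∈ T :=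
        QuotientGroup.eq.1 (congrArg (fun σ : Equiv.Perm _ => σ (QuotientGroup.mk w)) hb)
      have hw2 : t' * t' = 1 := Subtype.ext (by simpa [sq] using hS.2 t htS)
      rcases hTm _ h with e | e
      · rw [inv_mul_eq_one] at e; rw [e, e]
      · rw [inv_mul_eq_iff_eq_mul] at e
        have e' : ((b : A) : MulAut (S : Subgroup G)) w = w * t' := by
          conv_rhs => rw [e, mul_assoc, hw2, mul_one]
        rw [e', map_mul, e', hfix, mul_assoc, hw2, mul_one]
    have : b ^ 2 = 1 := Subtype.ext (Subtype.ext (MulEquiv.ext fun w => by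
      simp only [sq]; exact hb2 w))
    have h1 : orderOf b ∣ 2 := orderOf_dvd_of_pow_eq_one this
    have h2 : Odd (orderOf b) := hoddt.of_dvd_nat (orderOf_dvd_natCard b)
    rcases (Nat.dvd_prime Nat.prime_two).1 h1 with e | e
    · exact orderOf_eq_one_iff.1 e
    · rw [e] at h2; exact absurd h2 (by decide)
  have h24 : Nat.card At ∣ 24 := by
    have := (Subgroup.card_dvd_of_injective π hinj)
    rw [Nat.card_perm] at this
    have hQ : Nat.card ((S : Subgroup G) ⧸ T) = 4 := by
      have := Subgroup.card_eq_card_quotient_mul_card_subgroup T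
      rw [hS8, hT] at this
      omega
    rw [hQ] at this
    simpa [Nat.factorial] using this
  have h3 : Nat.card At = 3 := by
    have hpos : 0 < Nat.card At := Nat.card_pos
    have hle := Nat.le_of_dvd (by norm_num) h24
    have hne1 : Nat.card At ≠ 1 := fun e => h7 (by rw [hcard, e, mul_one])
    obtain ⟨r, hr⟩ := hoddt
    have : r ≤ 11 := by omega
    interval_cases r <;> simp_all
  haveI : Fact (Nat.Prime 3) := ⟨Nat.prime_three⟩
  obtain ⟨b, hb⟩ := exists_prime_orderOf_dvd_card' 3 (by rw [h3] : 3 ∣ Nat.card At)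
  obtain ⟨x0, hx0⟩ := (b : A).2
  obtain ⟨k, m, hm, hkm⟩ : ∃ k m, Odd m ∧ orderOf x0 = 2 ^ k * m := by
    obtain ⟨k, m, hm, e⟩ := Nat.exists_eq_pow_mul_and_not_dvd (orderOf_pos x0).ne' 2 (by norm_num)
    exact ⟨k, m, Nat.odd_iff.2 (Nat.two_dvd_ne_zero.1 hm), e⟩
  set x1 := x0 ^ 2 ^ k with hx1
  have hx1m : x1 ^ m = 1 := by rw [hx1, ← pow_mul, ← hkm, pow_orderOf_eq_one]
  have hb1 : b ^ 2 ^ k ≠ 1 := fun h => by
    have h := orderOf_dvd_of_pow_eq_one h
    rw [hb] at h
    exact absurd (Nat.Prime.dvd_of_dvd_pow Nat.prime_three h) (by norm_num)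
  have hfx : nhom S x1 = (((b ^ 2 ^ k : At) : A) : MulAut (S : Subgroup G)) := by
    rw [hx1, map_pow, hx0, Subgroup.coe_pow, SubmonoidClass.coe_pow]
  have hgen : ∀ y : normalizer ((S : Subgroup G) : Set G), (y : G) * t = t * y → ∃ j : ℕ,
      nhom S y = nhom S (x1 ^ j) := by
    intro y hy
    have hyt : (⟨nhom S y, y, rfl⟩ : A) ∈ At := Subtype.ext (by
      show (y : G) * t * (y : G)⁻¹ = t
      rw [hy, mul_inv_cancel_right])
    haveI : Fintype At := Fintype.ofFinite _
    have hz : zpowers (b ^ 2 ^ k) = ⊤ := zpowers_eq_top_of_prime_card h3 hb1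
    obtain ⟨j, hj⟩ := mem_powers_iff_mem_zpowers.2 (hz ▸ mem_top (⟨_, hyt⟩ : At))
    refine ⟨j, ?_⟩
    have := congrArg (fun z : At => ((z : A) : MulAut (S : Subgroup G))) hj
    simp only [Subgroup.coe_pow, SubmonoidClass.coe_pow] at this
    rw [map_pow, hfx, Subgroup.coe_pow, SubmonoidClass.coe_pow]
    exact this.symm
  refine ⟨x1, x1.2, ?_, ?_, ?_, ?_, fun y hyN hy => ?_⟩
  · have h : nhom S x1 t' = t' := by rw [hfx]; exact hfix _
    have h' := congrArg Subtype.val h
    rw [nhom_apply] at h'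
    exact mul_inv_eq_iff_eq_mul.1 h'
  · rw [orderOf_coe]
    exact hm.of_dvd_nat (orderOf_dvd_of_pow_eq_one hx1m)
  · intro h
    rw [← nhom_ker, hfx] at h
    exact hb1 (Subtype.ext (Subtype.ext h))
  · have : nhom S (x1 ^ 3) = 1 := by
      rw [map_pow, hfx, ← SubmonoidClass.coe_pow, ← Subgroup.coe_pow, ← h3, pow_card_eq_one']
      rfl
    exact (nhom_ker S _).1 this
  · obtain ⟨j, hj⟩ := hgen ⟨y, hyN⟩ hy
    refine ⟨j, ?_⟩
    have := (nhom_ker S (⟨y, hyN⟩ * (x1 ^ j)⁻¹)).1 (by rw [map_mul, map_inv, hj, mul_inv_cancel])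
    simpa using this

end

end Cfsg.Agent.EightSylow
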